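import Cfsg.Agent.SM.CS.One
import Cfsg.Agent.S0814
import Cfsg.Agent.S0816
import Cfsg.Agent.S2122
import Cfsg.Agent.S1062
import Cfsg.Agent.S0245
import Cfsg.Agent.S0246
import Cfsg.Agent.S0292
import Cfsg.Agent.H243.EP.OwnNum
import Cfsg.Agent.ClassicalGeometry.SubspaceFrames

/-!
# SM / CS: orders of the rows, the number of subspaces, a prime (helper62)
-/

set_option autoImplicit false
set_option linter.unusedSectionVars false
set_option maxHeartbeats 400000

namespace Cfsg.Agent.SM.CS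

open Cfsg Module

theorem card_subspaces_le {F V : Type} [Field F] [Fintype F] [AddCommGroup V] [Module F V] [FiniteDimensional F V] {k e : ℕ}
    (h : finrank F V * k ≤ e + (k - 1) * k) : Nat.card {W : Submodule F V // finrank F W = k} ≤ Fintype.card F ^ e := by
  have : Finite V := Module.finite_of_finite F
  have hq : 2 ≤ Fintype.card F := Fintype.one_lt_card
  have h1 := ClassicalGeometry.SubspaceFrames.card_subspaces_mul (F := F) (V := V) k fun _ => True
  have h2 : Nat.card {b : Fin k → V // LinearIndependent F b ∧ True} ≤ Fintype.card F ^ (finrank F V * k) := by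
    refine (Nat.card_le_card_of_injective _ Subtype.val_injective).trans ?_
    rw [Nat.card_fun, Module.natCard_eq_pow_finrank (K := F), Nat.card_eq_fintype_card, Nat.card_eq_fintype_card,
      Fintype.card_fin, pow_mul]
  have h3 : Fintype.card F ^ ((k - 1) * k) ≤ ∏ i : Fin k, (Fintype.card F ^ k - Fintype.card F ^ (i : ℕ)) := by
    rw [pow_mul]
    refine le_trans (by rw [Finset.card_univ, Fintype.card_fin]) (Finset.pow_card_le_prod _ _ _ fun i _ => ?_)
    have h4 : Fintype.card F ^ (i : ℕ) ≤ Fintype.card F ^ (k - 1) := Nat.pow_le_pow_right (by omega) (by omega)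
    have h5 : Fintype.card F ^ k = Fintype.card F ^ (k - 1) * Fintype.card F := by
      rw [← pow_succ]
      congr 1
      have := i.2
      omega
    have h6 := Nat.mul_le_mul_left (Fintype.card F ^ (k - 1)) hq
    omega
  have h7 : Nat.card {W : Submodule F V // finrank F W = k} = Nat.card {W : Submodule F V // finrank F W = k ∧ True} := by
    simp only [and_true]
  refine Nat.le_of_mul_le_mul_right ?_ (pow_pos (by omega : 0 < Fintype.card F) ((k - 1) * k))
  rw [← pow_add, h7]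
  exact ((Nat.mul_le_mul_left _ h3).trans (h1.le.trans h2)).trans (Nat.pow_le_pow_right (by omega) h)

theorem exists_pf (F : Type) [Field F] [Fintype F] :
    ∃ p f : ℕ, ∃ _ : Fact p.Prime, CharP F p ∧ 1 ≤ f ∧ Fintype.card F = p ^ f ∧ 2 * f ≤ Fintype.card F ^ 2 := by
  obtain ⟨p, hp⟩ := CharP.exists F
  obtain ⟨f, hpp, hf⟩ := FiniteField.card F p
  refine ⟨p, f, ⟨hpp⟩, hp, f.2, hf, ?_⟩
  have h1 : (f : ℕ) < p ^ (f : ℕ) := Nat.lt_pow_self hpp.one_lt
  have hq : 2 ≤ Fintype.card F := Fintype.one_lt_card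
  rw [sq]
  exact Nat.mul_le_mul hq (hf ▸ h1.le)

theorem card_aut_congr {T T' : Type} [Group T] [Group T'] (e : T ≃* T') : Nat.card (MulAut T) = Nat.card (MulAut T') :=
  Nat.card_congr (MulAut.congr e).toEquiv

theorem psp_eq (F : Type) [Field F] [Fintype F] {m : ℕ} (hm : 1 ≤ m) : Nat.card (PSp m F) * Nat.gcd 2 (Fintype.card F - 1) =
    Fintype.card F ^ (m ^ 2) * ∏ i ∈ Finset.range m, (Fintype.card F ^ (2 * (i + 1)) - 1) := by
  rw [← S0245.result (F := F) rfl m, ← S0246.result (F := F) rfl m hm]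
  exact (Subgroup.card_eq_card_quotient_mul_card_subgroup _).symm

theorem aut_psp (F : Type) [Field F] [Fintype F] {m : ℕ} (hm : 3 ≤ m) : Nat.card (MulAut (PSp m F)) ≤
    Fintype.card F ^ 2 * (Fintype.card F ^ (m ^ 2) * ∏ i ∈ Finset.range m, (Fintype.card F ^ (2 * (i + 1)) - 1)) := by
  obtain ⟨p, f, _, -, h1, h2, h3⟩ := exists_pf F
  rw [S0814.result p f h1 h2 m (by omega) (by omega), if_neg (by omega), ← psp_eq F (by omega), one_mul, ← h2, mul_assoc,
    mul_comm, mul_assoc]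
  exact Nat.mul_le_mul_right _ (by omega)

variable {k : Kind} {q m : ℕ} {T : Type} [Group T]

theorem RowC.aut (h : RowC k q m T) : Nat.card (MulAut T) ≤ q ^ 23 := by
  obtain ⟨-, -, F, _, _, rfl, ⟨e⟩⟩ := h
  rw [card_aut_congr e]
  refine (aut_psp F le_rfl).trans ?_
  simp only [Finset.prod_range_succ, Finset.prod_range_zero]
  generalize Fintype.card F = q
  calc _ ≤ q ^ 2 * (q ^ 3 ^ 2 * (1 * q ^ (2 * (0 + 1)) * q ^ (2 * (1 + 1)) * q ^ (2 * (2 + 1)))) := by
        gcongr <;> exact Nat.sub_le _ _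
    _ = _ := by ring

theorem RowF.aut (h : RowF k q m T) : Nat.card (MulAut T) ≤ q ^ 54 := by
  obtain ⟨-, -, F, _, _, rfl, ⟨e⟩⟩ := h
  obtain ⟨p, f, _, _, h1, h2, h3⟩ := exists_pf F
  rw [card_aut_congr e]
  refine H243.EP.card_aut_le.trans ?_
  rw [S2122.result p f h2, S1062.result rfl]
  have h4 : Nat.gcd 2 p * f ≤ Fintype.card F ^ 2 := (Nat.mul_le_mul_right _ (Nat.gcd_le_left _ (by norm_num))).trans h3
  generalize Fintype.card F = q at h4 ⊢
  calc _ ≤ q ^ 2 * (q ^ 24 * q ^ 2 * q ^ 6 * q ^ 8 * q ^ 12) := by gcongr <;> exact Nat.sub_le _ _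
    _ = _ := by ring

theorem le38 (q : ℕ) : q ^ 2 * (q ^ 4 ^ 2 * ∏ i ∈ Finset.range 4, (q ^ (2 * (i + 1)) - 1)) ≤ q ^ 38 := by
  simp only [Finset.prod_range_succ, Finset.prod_range_zero]
  calc _ ≤ q ^ 2 * (q ^ 4 ^ 2 * (1 * q ^ (2 * (0 + 1)) * q ^ (2 * (1 + 1)) * q ^ (2 * (2 + 1)) * q ^ (2 * (3 + 1)))) := by
        gcongr <;> exact Nat.sub_le _ _
    _ = _ := by ring

theorem dvd6 {q r : ℕ} (h : r ∣ q ^ 3 - 1) : r ∣ q ^ 4 ^ 2 * ∏ i ∈ Finset.range 4, (q ^ (2 * (i + 1)) - 1) :=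
  ((h.trans (Nat.pow_sub_one_dvd_pow_sub_one q (by norm_num) : q ^ 3 - 1 ∣ q ^ (2 * (2 + 1)) - 1)).trans
    (Finset.dvd_prod_of_mem (fun i => q ^ (2 * (i + 1)) - 1) (by simp : 2 ∈ Finset.range 4))).mul_left _

theorem row16 (h : RowBo k q m T ∨ RowBe k q m T) : k = .p1 ∧ m = 8 ∧ Nat.card (MulAut T) ≤ q ^ 38 ∧
    ∀ r : ℕ, r.Prime → r ≠ 2 → r ∣ q ^ 3 - 1 → r ∣ Nat.card T := by
  rcases h with ⟨h1, h2, ho, F, _, _, rfl, ⟨e⟩⟩ | ⟨h1, h2, -, F, _, _, rfl, ⟨e⟩⟩
  · have h3 := S0292.result (F := F) rfl ho 4 (by norm_num)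
    refine ⟨h1, h2, ?_, fun r hr h4 h5 => ?_⟩
    · obtain ⟨p, f, _, _, h6, h7, h8⟩ := exists_pf F
      rw [card_aut_congr e, S0816.result p f h6 h7 ((Nat.odd_pow_iff (by omega)).1 (h7 ▸ ho)) 4 (by norm_num)]
      refine le_trans (Nat.mul_le_mul h8 ?_) (le38 _)
      omega
    · rw [Nat.card_congr e.toEquiv]
      exact ((Nat.coprime_primes hr Nat.prime_two).2 h4).dvd_of_dvd_mul_left (h3 ▸ dvd6 h5)
  · refine ⟨h1, h2, ?_, fun r hr h4 h5 => ?_⟩
    · rw [card_aut_congr e]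
      exact (aut_psp F (by norm_num)).trans (le38 _)
    · rw [Nat.card_congr e.toEquiv]
      exact (((Nat.coprime_primes hr Nat.prime_two).2 h4).coprime_dvd_right (Nat.gcd_dvd_left _ _)).dvd_of_dvd_mul_right
        (psp_eq F (m := 4) (by norm_num) ▸ dvd6 h5)

/-- a prime `r` such that `q` has order three modulo `r` -/
theorem exists_prime3 {q : ℕ} (hq : 2 ≤ q) : ∃ r : ℕ, r.Prime ∧ r ≠ 2 ∧ orderOf (q : ZMod r) = 3 := by
  have h9 : ¬ 9 ∣ q ^ 2 + q + 1 := by
    intro h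
    have h1 := (ZMod.natCast_eq_zero_iff _ 9).2 h
    push_cast at h1
    generalize (q : ZMod 9) = x at h1
    revert x
    decide
  obtain ⟨r, hr, h1, h3⟩ : ∃ r : ℕ, r.Prime ∧ r ∣ q ^ 2 + q + 1 ∧ r ≠ 3 := by
    by_contra hc
    have h1 := Nat.eq_prime_pow_of_unique_prime_dvd (p := 3) (n := q ^ 2 + q + 1) (by omega) fun {d} hd hdd => by
      by_contra h
      exact hc ⟨d, hd, hdd, h⟩
    generalize (q ^ 2 + q + 1).primeFactorsList.length = l at h1
    rcases l with _ | _ | l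
    · nlinarith
    · rw [zero_add, pow_one] at h1
      nlinarith
    · exact h9 (h1 ▸ ⟨3 ^ l, by ring⟩)
  have h22 : ∀ x : ZMod 2, x ^ 2 + x + 1 ≠ 0 := by decide
  have : Fact r.Prime := ⟨hr⟩
  have h4 := (ZMod.natCast_eq_zero_iff _ r).2 h1
  push_cast at h4
  refine ⟨r, hr, ?_, ?_⟩
  · rintro rfl
    exact h22 _ h4
  · have : Fact (Nat.Prime 3) := ⟨Nat.prime_three⟩
    refine orderOf_eq_prime (by linear_combination ((q : ZMod r) - 1) * h4) fun h => h3 ?_
    rw [h] at h4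
    have h5 : ((3 : ℕ) : ZMod r) = 0 := by
      push_cast
      linear_combination h4
    exact (Nat.prime_dvd_prime_iff_eq hr Nat.prime_three).1 ((ZMod.natCast_eq_zero_iff _ r).1 h5)

end Cfsg.Agent.SM.CS
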