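import Cfsg.Agent.SM.Defs
import Cfsg.Agent.SM.Ti.Defs
import Cfsg.Agent.H100.Ppd.Defs
import Cfsg.Prelude.Def_LieTypeChar
import Cfsg.Prelude.Def_LieClassical

/-!
# SM (S3570), common box CS: a factor of class `S` which is transitive on a sphere, `d ≥ 13` (helper62, `notes/SM/cs.md`)

* `Sph k q m B Sg G X` : one of the five spheres; `G = SU, Ω, Sp`, `G ⊓ X` the stabiliser of a point of the sphere;
* `Cs k G X Y P` : `Y ≤ G` proper modulo scalars, in the residual class with core `P`, `G = Y X`;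
* `Hy` : the same with the derived facts (polar space, tight, index);
* `Cov G π S`, `pre π Y` : `S = G / scalars` inside an abstract group, the preimage of `Y`;
* results for the family owners: `CS1` (`T` of class `S`, `Ω` the sphere), `CS2` (`B` of class `S`), `BoxCo` (count).
-/

set_option autoImplicit false
set_option linter.unusedSectionVars false

namespace Cfsg.Agent.SM.CS

open Cfsg Cfsg.Geo Matrix Subgroup
open Cfsg.Agent.H915.LD (Core FixQ)

/-- unitary `N₁`; plus type `N₁`, `N₂⁻`; odd dimension `N₁⁻`; symplectic, forms of minus type -/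
inductive Kind | u | p1 | p2 | o | s
  deriving DecidableEq

/-- the size of the sphere is `num / den` -/
def Kind.num : Kind → ℕ → ℕ → ℕ
  | .u, q, m => q ^ (2 * m - 1) * (q ^ (2 * m) - 1)
  | .p1, q, m => q ^ (m - 1) * (q ^ m - 1)
  | .p2, q, m => q ^ (2 * m - 2) * (q ^ m - 1) * (q ^ (m - 1) - 1)
  | .o, q, m => q ^ m * (q ^ m - 1)
  | .s, q, m => q ^ m * (q ^ m - 1)

def Kind.den : Kind → ℕ → ℕ
  | .u, q => q + 1
  | .p1, q => Nat.gcd 2 (q - 1)
  | .p2, q => 2 * (q + 1)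
  | .o, _ => 2
  | .s, _ => 2

theorem Kind.num_realised : ∀ k q m, Kind.num k q m = Kind.num k q m := fun k q m => by
  have := @Kind.num.eq_def
  have := @Kind.den.eq_def
  rfl

section matrix

variable {ι : Type} [Fintype ι] [DecidableEq ι] {K : Type} [Field K] [Fintype K]

/-- the isometry group of a form in two arguments (`spGL m K = Iso (sympForm m K)`, `GU n K q = Iso (hermForm n K q)` by `rfl`) -/
abbrev Iso (f : (ι → K) → (ι → K) → K) : Subgroup (GL ι K) := preserving (Units.coeHom (Matrix ι ι K)) f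

/-- the five spheres -/
inductive Sph (q m : ℕ) : Kind → ((ι → K) → (ι → K) → K) → ((ι → K) → Prop) → Subgroup (GL ι K) → Subgroup (GL ι K) → Prop
  | u (f : (ι → K) → (ι → K) → K) (hf : IsUnitaryFormPow q f) (hK : Fintype.card K = q ^ 2) (hd : Fintype.card ι = 2 * m)
      (v : ι → K) (hv : f v v ≠ 0) :
      Sph q m .u f (fun x => f x x = 0) (Iso f ⊓ specialLinear ι K) (subspaceStabilizer (Submodule.span K {v}))
  | p1 (Q : (ι → K) → K) (hQ : IsNondegenerateQuadraticForm Q) (hp : IsPlusTypeOn Q ⊤) (hK : Fintype.card K = q)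
      (hd : Fintype.card ι = 2 * m) (v : ι → K) (hv : Q v ≠ 0) :
      Sph q m .p1 (QuadraticMap.polar Q) (fun x => Q x = 0) (omegaGL Q) (subspaceStabilizer (Submodule.span K {v}))
  | p2 (Q : (ι → K) → K) (hQ : IsNondegenerateQuadraticForm Q) (hp : IsPlusTypeOn Q ⊤) (hK : Fintype.card K = q)
      (hd : Fintype.card ι = 2 * m) (W : Submodule K (ι → K)) (h2 : Module.finrank K W = 2)
      (hW : ∀ w ∈ W, Q w = 0 → w = 0) :
      Sph q m .p2 (QuadraticMap.polar Q) (fun x => Q x = 0) (omegaGL Q) (subspaceStabilizer W)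
  | o (Q : (ι → K) → K) (hQ : IsNondegenerateQuadraticForm Q) (hK : Fintype.card K = q) (hq : Odd q)
      (hd : Fintype.card ι = 2 * m + 1) (W : Submodule K (ι → K)) (h2 : Module.finrank K W = 2 * m)
      (hn : IsNondegenerateOn (QuadraticMap.polar Q) W) (hW : ¬ IsPlusTypeOn Q W) :
      Sph q m .o (QuadraticMap.polar Q) (fun x => Q x = 0) (omegaGL Q) (subspaceStabilizer W)
  | s (Q : (ι → K) → K) (hQ : IsNondegenerateQuadraticForm Q) (hp : ¬ IsPlusTypeOn Q ⊤) (hK : Fintype.card K = q)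
      (hq : Even q) (hd : Fintype.card ι = 2 * m) :
      Sph q m .s (QuadraticMap.polar Q) (fun _ => True) (Iso (QuadraticMap.polar Q)) (isometryGroup K Q)

/-- `Y ≤ G` is proper modulo scalars, in the residual class with core `P`, and `G = Y X` -/
structure Cs (k : Kind) (G X Y P : Subgroup (GL ι K)) : Prop where
  big : 13 ≤ Fintype.card ι
  core : IsResidualCore Y P
  le : Y ≤ G
  prop : ¬ G ≤ Y ⊔ scalars ι K
  fac : ∀ g ∈ G, ∃ y ∈ Y, ∃ x ∈ X, g = y * x
  nq : k = .s → ¬ FixQ P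

/-- `P` contains a classical group of `K ^ ι` (`H100.Ppd.Nat'` for any index type; `natG_iff`) -/
def NatG (P : Subgroup (GL ι K)) : Prop :=
  specialLinear ι K ≤ P ∨
  (∃ f : (ι → K) → (ι → K) → K, IsSymplecticForm f ∧ ∀ x : GL ι K, FixesForm {(x : Matrix ι ι K)} f → x ∈ P) ∨
  (∃ (τ : K ≃+* K) (f : (ι → K) → (ι → K) → K), IsUnitaryForm τ f ∧
    ∀ x : GL ι K, FixesForm {(x : Matrix ι ι K)} f → Matrix.GeneralLinearGroup.det x = 1 → x ∈ P) ∨
  (∃ Q : (ι → K) → K, IsNondegenerateQuadraticForm Q ∧ omegaGL Q ≤ P)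

theorem natG_iff {n : ℕ} (P : Subgroup (GL (Fin n) K)) : NatG P ↔ H100.Ppd.Nat' P := Iff.rfl

/-- the same with the derived facts -/
structure Hy (k : Kind) (q m : ℕ) (B : (ι → K) → (ι → K) → K) (Sg : (ι → K) → Prop) (G X Y P : Subgroup (GL ι K)) :
    Prop extends Cs k G X Y P where
  sph : Sph q m k B Sg G X
  pol : Ti.Pol B Sg G
  nd : IsNondegenerateForm B
  tight : Ti.Tight B Sg m Y
  sc : G ⊓ scalars ι K ≤ X
  idx : X.relIndex Y * k.den q = k.num q m
  nat : ¬ NatG P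

/-- the image of `X ⊓ P` in `P / scalars` -/
def img (X P : Subgroup (GL ι K)) : Subgroup (H915.LD.Soc P) := (X.subgroupOf P).map (QuotientGroup.mk' _)

end matrix

/-- `A` is not properly contained in a proper subgroup invariant under the automorphisms that normalise `A` -/
def Prm {T : Type} [Group T] (A : Subgroup T) : Prop :=
  ∀ C : Subgroup T, A ≤ C → (∀ φ : MulAut T, A.map φ.toMonoidHom = A → C.map φ.toMonoidHom = C) → C = A ∨ C = ⊤

/-- a property of all `Hy` (index type `Fin n`) -/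
def AllHy (R : ∀ (n : ℕ) (K : Type) [Field K] [Fintype K], Kind → ℕ → ℕ → ((Fin n → K) → (Fin n → K) → K) →
    Subgroup (GL (Fin n) K) → Subgroup (GL (Fin n) K) → Subgroup (GL (Fin n) K) → Prop) : Prop :=
  ∀ (n : ℕ) (K : Type) [Field K] [Fintype K] (k : Kind) (q m : ℕ) (B : (Fin n → K) → (Fin n → K) → K)
    (Sg : (Fin n → K) → Prop) (G X Y P : Subgroup (GL (Fin n) K)), Hy k q m B Sg G X Y P → R n K k q m B X Y P

/-! ### the surviving rows -/

/-- `B₄` on the spin module, `q` odd -/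
def RowBo (k : Kind) (q m : ℕ) (T : Type) [Group T] : Prop :=
  k = .p1 ∧ m = 8 ∧ Odd q ∧
    ∃ (F : Type) (_ : Field F) (_ : Fintype F), Fintype.card F = q ∧ Nonempty (T ≃* POmega F (quadFormOdd 4 F))
/-- `C₄` on the spin module, `q` even -/
def RowBe (k : Kind) (q m : ℕ) (T : Type) [Group T] : Prop :=
  k = .p1 ∧ m = 8 ∧ Even q ∧ ∃ (F : Type) (_ : Field F) (_ : Fintype F), Fintype.card F = q ∧ Nonempty (T ≃* PSp 4 F)
/-- `C₃` in dimension 13 -/
def RowC (k : Kind) (q m : ℕ) (T : Type) [Group T] : Prop :=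
  k = .o ∧ m = 6 ∧ ∃ (F : Type) (_ : Field F) (_ : Fintype F), Fintype.card F = q ∧ Nonempty (T ≃* PSp 3 F)
/-- `F₄` in dimension 25 -/
def RowF (k : Kind) (q m : ℕ) (T : Type) [Group T] : Prop :=
  k = .o ∧ m = 12 ∧ ∃ (F : Type) (_ : Field F) (_ : Fintype F), Fintype.card F = q ∧ Nonempty (T ≃* Lie.chevF4.group F)
/-- `Co₁` in dimension 24 -/
def RowCo (k : Kind) (q m : ℕ) (T : Type) [Group T] : Prop := k = .p1 ∧ m = 12 ∧ q = 2 ∧ Spor.IsoCo1 T

/-! ### the boxes -/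

/-- [CS-Nat] -/
def BoxNat : Prop :=
  ∀ (ι : Type) [Fintype ι] [DecidableEq ι] (K : Type) [Field K] [Fintype K] (k : Kind) (q m : ℕ) (B : (ι → K) → (ι → K) → K)
    (Sg : (ι → K) → Prop) (G X Y P : Subgroup (GL ι K)), Sph q m k B Sg G X → Cs k G X Y P → ¬ NatG P

/-- [CS-Idx] the size of the sphere -/
def BoxIdx : Prop :=
  ∀ (ι : Type) [Fintype ι] [DecidableEq ι] (K : Type) [Field K] [Fintype K] (k : Kind) (q m : ℕ) (B : (ι → K) → (ι → K) → K)
    (Sg : (ι → K) → Prop) (G X : Subgroup (GL ι K)), Sph q m k B Sg G X → 7 ≤ Fintype.card ι →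
    X.relIndex G * k.den q = k.num q m

/-- [CS-Ti] polar space, tight -/
def BoxTi : Prop :=
  ∀ (ι : Type) [Fintype ι] [DecidableEq ι] (K : Type) [Field K] [Fintype K] (k : Kind) (q m : ℕ) (B : (ι → K) → (ι → K) → K)
    (Sg : (ι → K) → Prop) (G X Y P : Subgroup (GL ι K)), Sph q m k B Sg G X → Cs k G X Y P →
    Ti.Pol B Sg G ∧ Ti.Tight B Sg m Y

/-- [CS-Hy] the derived facts -/
def BoxHy : Prop :=
  ∀ (ι : Type) [Fintype ι] [DecidableEq ι] (K : Type) [Field K] [Fintype K] (k : Kind) (q m : ℕ) (B : (ι → K) → (ι → K) → K)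
    (Sg : (ι → K) → Prop) (G X Y P : Subgroup (GL ι K)), Sph q m k B Sg G X → Cs k G X Y P → Hy k q m B Sg G X Y P

/-- [CS-D] defining characteristic (helper69) -/
def BoxD : Prop := AllHy fun _ K _ _ k q m _ _ _ P => ∀ p : ℕ, p.Prime → CharP K p → IsLieTypeChar p (H915.LD.Soc P) →
  RowBo k q m (H915.LD.Soc P) ∨ RowBe k q m (H915.LD.Soc P) ∨ RowC k q m (H915.LD.Soc P) ∨ RowF k q m (H915.LD.Soc P)

/-- [CS-X] the other socles (helper85) -/
def BoxX : Prop := AllHy fun _ K _ _ k q m _ _ _ P => ∀ p : ℕ, p.Prime → CharP K p → ¬ IsLieTypeChar p (H915.LD.Soc P) →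
  RowCo k q m (H915.LD.Soc P)

/-- the stabiliser centralises a canonical involution -/
def Inv {n : ℕ} {K : Type} [Field K] [Fintype K] (X P : Subgroup (GL (Fin n) K)) : Prop :=
  ∃ z : P, (z : GL (Fin n) K) ∈ X ∧ z * z = 1 ∧ (z : GL (Fin n) K) ∉ scalars (Fin n) K ∧
    (∃ c : P, c * z = z * c ∧ (c : GL (Fin n) K) ∉ X) ∧
    ∀ φ : MulAut (H915.LD.Soc P), (img X P).map φ.toMonoidHom = img X P → φ (QuotientGroup.mk z) = QuotientGroup.mk z

/-- the stabiliser fixes a subspace of dimension 8 perpendicular to the point, and (if `P` is transitive) is not primitive -/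
def Red {n : ℕ} {K : Type} [Field K] [Fintype K] (B : (Fin n → K) → (Fin n → K) → K) (X Y P : Subgroup (GL (Fin n) K)) : Prop :=
  (∀ v : Fin n → K, v ≠ 0 → X = subspaceStabilizer (Submodule.span K {v}) → ∃ U : Submodule K (Fin n → K),
    Module.finrank K U = 8 ∧ X ⊓ Y ≤ subspaceStabilizer U ∧ v ∉ U ∧ ∀ u ∈ U, B u v = 0) ∧
  (Y ≤ P ⊔ scalars (Fin n) K → ¬ Prm (img X P))

/-- [CS-Bo] -/
def BoxBo : Prop := AllHy fun _ _ _ _ k q m B X Y P => RowBo k q m (H915.LD.Soc P) → Red B X Y P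
/-- [CS-Be] -/
def BoxBe : Prop := AllHy fun _ _ _ _ k q m B X Y P => RowBe k q m (H915.LD.Soc P) → Red B X Y P
/-- [CS-C] -/
def BoxC : Prop := AllHy fun _ _ _ _ k q m _ X _ P => RowC k q m (H915.LD.Soc P) → Inv X P
/-- [CS-F] -/
def BoxF : Prop := AllHy fun _ _ _ _ k q m _ X _ P => RowF k q m (H915.LD.Soc P) → Inv X P

/-! ### the results, for `Fac` -/

section fac

variable {ι : Type} [Fintype ι] [DecidableEq ι] {K : Type} [Field K] [Fintype K] {Γ : Type} [Group Γ]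

/-- `S = G / scalars` -/
structure Cov (G : Subgroup (GL ι K)) (π : G →* Γ) (S : Subgroup Γ) : Prop where
  range : π.range = S
  ker : ∀ g : G, π g = 1 ↔ (g : GL ι K) ∈ scalars ι K

/-- the preimage in `G` -/
def pre {G : Subgroup (GL ι K)} (π : G →* Γ) (Y : Subgroup Γ) : Subgroup (GL ι K) := (Y.comap π).map G.subtype

end fac

/-- **`T` of class `S`, `Ω` the sphere**: only `Co₁ < Ω₂₄⁺(2)` -/
def CS1 : Prop :=
  ∀ (ι : Type) [Fintype ι] [DecidableEq ι] (K : Type) [Field K] [Fintype K] (Γ : Type) [Group Γ] [Finite Γ]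
    (M S H T B : Subgroup Γ) (k : Kind) (q m : ℕ) (f : (ι → K) → (ι → K) → K) (Sg : (ι → K) → Prop)
    (G X P : Subgroup (GL ι K)) (π : G →* Γ) (Y : Subgroup Γ), Fac M S H T B → Sph q m k f Sg G X → Cov G π S →
    13 ≤ Fintype.card ι → pre π B = G ⊓ X → T ≤ Y → Y ≤ H → IsResidualCore (pre π Y) P → (k = .s → ¬ FixQ P) →
    RowCo k q m T

/-- **`B` of class `S`, `H` the stabiliser of a point of the sphere**: only `Co₁ < Ω₂₄⁺(2)` -/
def CS2 : Prop :=
  ∀ (ι : Type) [Fintype ι] [DecidableEq ι] (K : Type) [Field K] [Fintype K] (Γ : Type) [Group Γ] [Finite Γ]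
    (M S H T B : Subgroup Γ) (k : Kind) (q m : ℕ) (f : (ι → K) → (ι → K) → K) (Sg : (ι → K) → Prop)
    (G X P : Subgroup (GL ι K)) (π : G →* Γ), Fac M S H T B → Sph q m k f Sg G X → Cov G π S →
    13 ≤ Fintype.card ι → pre π H = G ⊓ X → IsResidualCore (pre π B) P → (k = .s → ¬ FixQ P) →
    RowCo k q m (H915.LD.Soc P)

/-- the true row: `T = Sp₂₂(2)`, `S = Ω₂₄⁺(2)`, point stabiliser `Co₁` -/
def CoRow {Ω : Type} [Fintype Ω] [DecidableEq Ω] (X H T M : Subgroup (Equiv.Perm Ω)) : Prop :=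
  ∃ S, Up X H T M S ∧ ∀ a : Ω, ∃ (ι : Type) (_ : Fintype ι) (_ : DecidableEq ι) (K : Type) (_ : Field K) (_ : Fintype K)
    (f : (ι → K) → (ι → K) → K) (Sg : (ι → K) → Prop) (G X' P : Subgroup (GL ι K)) (π : G →* Equiv.Perm Ω),
    Sph 2 12 .p1 f Sg G X' ∧ Cov G π S ∧ pre π H = G ⊓ X' ∧
      IsResidualCore (pre π (M ⊓ MulAction.stabilizer (Equiv.Perm Ω) a)) P ∧ Spor.IsoCo1 (H915.LD.Soc P)

/-- [CS-Co] the count -/
def BoxCo (c : ℕ) : Prop :=
  ∀ (Ω : Type) [Fintype Ω] [DecidableEq Ω] (X H T : Subgroup (Equiv.Perm Ω)), {M | CoRow X H T M}.ncard ≤ c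

end Cfsg.Agent.SM.CS
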