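import Cfsg.Agent.H955.QSpace
import Cfsg.Agent.LieClassical.OrthFinite
import Cfsg.Agent.AutOrth.SemiSim

/-!
# SM / CS: a canonical subspace in the perp of a non-singular point (helper62)
-/

set_option autoImplicit false
set_option linter.unusedSectionVars false
set_option maxHeartbeats 400000

namespace Cfsg.Agent.SM.CS

open Module QuadraticMap
open Cfsg.Agent.LieClassical.OrthCore Cfsg.Agent.LieClassical.OrthTrans Cfsg.Agent.LieClassical.OrthFinite
open Cfsg.Agent.AutOrth.SemiSim (IsSemi)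
open Cfsg.Agent.H955 (perp mem_perp)

variable {F V : Type} [Field F] [Fintype F] [AddCommGroup V] [Module F V] [FiniteDimensional F V] {Q : QuadraticForm F V}

/-- an element of order `r` (`q` of order 3 modulo `r`) is trivial on sections of dimension at most two -/
theorem fix_of_ord {r : ℕ} (hr : r.Prime) (h3 : orderOf (Fintype.card F : ZMod r) = 3) {g : V ≃ₗ[F] V} (hg : g ^ r = 1)
    {Z S : Submodule F V} (hZ : Z ≤ S) (hS : ∀ x ∈ S, g x ∈ S) (hf : ∀ z ∈ Z, g z = z) (hd : finrank F S ≤ finrank F Z + 2) :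
    ∀ s ∈ S, g s = s := by
  classical
  have : Finite V := Module.finite_of_finite F
  have : Fact r.Prime := ⟨hr⟩
  have := Fintype.ofFinite S
  let f : Function.End S := fun s => ⟨g s, hS s s.2⟩
  have h1 : ∀ (n : ℕ) (s : S), ((f ^ n) s : V) = (g ^ n) s := fun n => by
    induction n with
    | zero => exact fun s => rfl
    | succ n ih =>
      intro s
      rw [pow_succ, pow_succ]
      exact ih (f s)
  have h2 : f ^ r ^ 1 = 1 := funext fun s => Subtype.ext (by rw [pow_one, h1, hg]; rfl)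
  have h4 := Equiv.Perm.card_fixedPoints_modEq h2
  let C : Submodule F V := S ⊓ LinearMap.eqLocus (g : V →ₗ[F] V) LinearMap.id
  have h5 : Nat.card (Function.fixedPoints f) = Nat.card C :=
    Nat.card_congr ⟨fun x => ⟨x.1.1, x.1.2, congrArg Subtype.val x.2⟩, fun x => ⟨⟨x.1, x.2.1⟩, Subtype.ext x.2.2⟩,
      fun _ => rfl, fun _ => rfl⟩
  rw [← Nat.card_eq_fintype_card, ← Nat.card_eq_fintype_card, h5, Module.natCard_eq_pow_finrank (K := F),
    Module.natCard_eq_pow_finrank (K := F) (V := C), ← ZMod.natCast_eq_natCast_iff, Nat.card_eq_fintype_card] at h4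
  push_cast at h4
  rw [(orderOf_pos_iff.1 (by omega)).pow_eq_pow_iff_modEq, h3] at h4
  have h6 : finrank F Z ≤ finrank F C := Submodule.finrank_mono fun z hz => ⟨hZ hz, hf z hz⟩
  have h7 : finrank F C ≤ finrank F S := Submodule.finrank_mono inf_le_left
  have h8 : C = S := Submodule.eq_of_le_of_finrank_eq inf_le_left (by unfold Nat.ModEq at h4; omega)
  exact fun s hs => (h8.symm ▸ hs : s ∈ C).2

theorem dvd_dim {Z : Submodule F V} {e : ℕ} {I : Submodule F V → Prop} (hI : ∀ A B, I A → I B → I (A ⊔ B))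
    {𝒮 : Set (Submodule F V)} (he : 0 < e)
    (h : ∀ S ∈ 𝒮, I S ∧ finrank F S = finrank F Z + e ∧ ∀ U, I U → Z ≤ U → S ≤ U ∨ S ⊓ U = Z) (n : ℕ) :
    ∀ U, I U → Z ≤ U → U ≤ sSup 𝒮 → finrank F (sSup 𝒮 : Submodule F V) = finrank F U + n → e ∣ n := by
  induction n using Nat.strong_induction_on with
  | _ n ih =>
    intro U h1 h2 h3 h4
    by_cases hc : ∀ S ∈ 𝒮, S ≤ U
    · have h5 := Submodule.finrank_mono (sSup_le hc)
      rw [show n = 0 by omega]
      exact dvd_zero e
    · push Not at hc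
      obtain ⟨S, hS, hn⟩ := hc
      obtain ⟨k1, k2, k3⟩ := h S hS
      have h5 := Submodule.finrank_sup_add_finrank_inf_eq S U
      rw [(k3 U h1 h2).resolve_left hn] at h5
      have h6 : S ⊔ U ≤ sSup 𝒮 := sup_le (le_sSup hS) h3
      have h7 := Submodule.finrank_mono h6
      have h8 := ih (n - e) (by omega) (S ⊔ U) (hI _ _ k1 h1) (h2.trans le_sup_right) h6 (by omega)
      rw [show n = e + (n - e) by omega]
      exact dvd_add dvd_rfl h8

theorem hyp_perp (hQ : Nondeg Q) {v x : V} (hv : Q v ≠ 0) (hx : Q x = 0) (h0 : x ≠ 0) (hvx : polar Q v x = 0) :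
    ∃ y, Hyp Q x y ∧ polar Q v y = 0 := by
  obtain ⟨y, h1, h2⟩ := exists_sep hQ (x := x) (z := v) fun c e => by
    rw [e, QuadraticMap.map_smul, smul_eq_mul, mul_eq_zero, mul_self_eq_zero] at hx
    exact h0 (by rw [e, hx.resolve_right hv, zero_smul])
  refine ⟨y + (-Q y) • x, ⟨hx, ?_, ?_⟩, ?_⟩
  · rw [Q_add, QuadraticMap.map_smul, hx, polar_smul_right, polar_comm Q y x, h2]
    simp
  · rw [polar_add_right, polar_smul_right, polar_self_of_sing hx, h2]
    simp
  · rw [polar_add_right, polar_smul_right, h1, hvx]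
    simp

/-- the stabiliser of a non-singular vector is irreducible on `v ^ ⊥` modulo its radical -/
theorem irr_pt (hQ : Nondeg Q) (hd : 6 ≤ finrank F V) {v : V} (hv : Q v ≠ 0) {S : Submodule F V}
    (hS : ∀ g ∈ E Q, g v = v → ∀ s ∈ S, g s ∈ S) {s : V} (hs : s ∈ S) (hsv : polar Q v s = 0) (hn : ∀ c : F, s ≠ c • v)
    {w : V} (hw : polar Q v w = 0) : w ∈ S := by
  obtain ⟨x, hx0, hx, hx1⟩ := exists_sing_perp (Q := Q) ![v] (by omega)
  obtain ⟨y, hxy, hy⟩ := hyp_perp hQ hv hx hx0 (hx1 0)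
  obtain ⟨u, hu, huv, hus⟩ : ∃ u, Q u = 0 ∧ polar Q v u = 0 ∧ polar Q u s = 1 := by
    by_contra hc
    push Not at hc
    obtain ⟨z, h1, h2⟩ := exists_sep hQ hn
    refine one_ne_zero (h2.symm.trans (sing_induction_perp (z := v) (w := v) hxy (hx1 0) hy (hx1 0) hy (P := fun a => polar Q s a = 0)
      (fun a c _ _ _ _ h h' => by rw [polar_add_right, h, h', add_zero]) (fun a ha hva _ => ?_) z h1 h1))
    by_contra h
    refine hc ((polar Q s a)⁻¹ • a) (by rw [QuadraticMap.map_smul, ha, smul_zero]) (by rw [polar_smul_right, hva, smul_zero]) ?_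
    rw [polar_smul_left, polar_comm Q a s, smul_eq_mul, inv_mul_cancel₀ h]
  have hu0 : u ≠ 0 := by
    rintro rfl
    rw [polar_zero_left] at hus
    exact zero_ne_one hus
  obtain ⟨u', huu, hu'⟩ := hyp_perp hQ hv hu hu0 huv
  obtain ⟨a, ha0, ha, ha1⟩ := exists_sing_perp (Q := Q) ![v, u, u'] (by omega)
  obtain ⟨c, hac, hc⟩ := hyp_perp hQ hv ha ha0 (ha1 0)
  have key : ∀ x, polar Q u x = 0 → polar Q v x = 0 → x - (polar Q x s + Q x) • u ∈ S := fun x h1 h2 => by
    have h := S.sub_mem (hS _ (siegel_mem_E hu h1) (by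
      rw [siegel_apply, polar_comm Q u v, polar_comm Q x v, huv, h2]
      simp) s hs) hs
    rw [siegel_apply, hus] at h
    convert h using 1
    module
  have c1 : polar Q u (proj Q u u' c) = 0 := polar_proj_left huu c
  have c2 : polar Q v (proj Q u u' c) = 0 := by
    rw [polar_proj_of_perp ((polar_comm _ _ _).trans huv) ((polar_comm _ _ _).trans hu'), hc]
  have c3 : polar Q a (proj Q u u' c) = 1 := by rw [polar_proj_of_perp (x := u) (y := u') (ha1 1) (ha1 2), hac.pair]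
  generalize proj Q u u' c = d at c1 c2 c3
  have a1 : polar Q u a = 0 := ha1 1
  have a2 : polar Q v a = 0 := ha1 0
  have huS : u ∈ S := by
    have h := S.sub_mem (S.add_mem (key a a1 a2) (key d c1 c2))
      (key (a + d) (by rw [polar_add_right, a1, c1, add_zero]) (by rw [polar_add_right, a2, c2, add_zero]))
    rw [polar_add_left, Q_add, c3] at h
    convert h using 1
    module
  have h := S.add_mem (S.add_mem (key (w - polar Q u w • s) (by rw [polar_sub_right, polar_smul_right, hus]; simp)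
    (by rw [polar_sub_right, polar_smul_right, hw, hsv]; simp)) (S.smul_mem (polar Q (w - polar Q u w • s) s +
      Q (w - polar Q u w • s)) huS)) (S.smul_mem (polar Q u w) hs)
  convert h using 1
  module

variable {T : V ≃+ V} {σ : F ≃+* F} {μ : F}

/-- the preimage under a semisimilarity -/
def cm (h : IsSemi Q T σ μ) (U : Submodule F V) : Submodule F V where
  carrier := {x | T x ∈ U}
  add_mem' := fun {a b} ha hb => by
    change T (a + b) ∈ U
    rw [map_add]
    exact U.add_mem ha hb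
  zero_mem' := by
    change T 0 ∈ U
    rw [map_zero]
    exact U.zero_mem
  smul_mem' := fun c x hx => by
    change T (c • x) ∈ U
    rw [h.smul]
    exact U.smul_mem _ hx

theorem mem_cm (h : IsSemi Q T σ μ) {U : Submodule F V} {x : V} : x ∈ cm h U ↔ T x ∈ U := Iff.rfl

theorem finrank_cm (h : IsSemi Q T σ μ) (U : Submodule F V) : finrank F (cm h U) = finrank F U := by
  have h1 : Nat.card (cm h U) = Nat.card U := Nat.card_congr (T.toEquiv.subtypeEquiv fun _ => Iff.rfl)
  rw [Module.natCard_eq_pow_finrank (K := F), Module.natCard_eq_pow_finrank (K := F) (V := U)] at h1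
  exact Nat.pow_right_injective Finite.one_lt_card h1

theorem cm_perp (h : IsSemi Q T σ μ) (U : Submodule F V) : cm h (perp Q U) = perp Q (cm h U) := by
  ext x
  refine ⟨fun hx w hw => ?_, fun hx w hw => ?_⟩
  · have h1 := hx (T w) hw
    rwa [h.polar, mul_eq_zero, or_iff_right h.ne, map_eq_zero] at h1
  · obtain ⟨w, rfl⟩ := T.surjective w
    rw [h.polar, hx w hw, map_zero, mul_zero]

theorem mem_pp {v x : V} : x ∈ perp Q (Submodule.span F {v}) ↔ polar Q v x = 0 := by
  refine ⟨fun h => h v (Submodule.mem_span_singleton_self v), fun h w hw => ?_⟩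
  obtain ⟨c, rfl⟩ := Submodule.mem_span_singleton.1 hw
  rw [polar_smul_left, h, smul_zero]

theorem finrank_pp (hQ : Nondeg Q) {v : V} (hv : Q v ≠ 0) : finrank F (perp Q (Submodule.span F {v})) + 1 = finrank F V := by
  rw [← H955.finrank_add_perp hQ (Submodule.span F {v}), finrank_span_singleton (by rintro rfl; exact hv (map_zero Q)), add_comm]

/-- a semisimilarity which normalises the stabiliser of the point fixes its perp -/
theorem cm_pp (hQ : Nondeg Q) (hd : 6 ≤ finrank F V) {v : V} (hv : Q v ≠ 0) (h : IsSemi Q T σ μ)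
    (hn : ∀ g ∈ E Q, g v = v → ∀ x, polar Q v (T x) = 0 → polar Q v (T (g x)) = 0) :
    cm h (perp Q (Submodule.span F {v})) = perp Q (Submodule.span F {v}) := by
  have h1 := finrank_pp hQ hv
  have h2 := finrank_cm h (perp Q (Submodule.span F {v}))
  have h3 := Submodule.finrank_sup_add_finrank_inf_eq (cm h (perp Q (Submodule.span F {v}))) (perp Q (Submodule.span F {v}))
  have h4 := Submodule.finrank_le (cm h (perp Q (Submodule.span F {v})) ⊔ perp Q (Submodule.span F {v}))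
  obtain ⟨s, hs, h0, hQs⟩ := exists_sing_mem (Q := Q) (cm h (perp Q (Submodule.span F {v})) ⊓ perp Q (Submodule.span F {v}))
    (by omega)
  refine (Submodule.eq_of_le_of_finrank_eq (S₁ := perp Q (Submodule.span F {v})) (fun w hw => ?_) h2.symm).symm
  refine irr_pt hQ hd hv (S := cm h (perp Q (Submodule.span F {v})))
    (fun g hg hgv x hx => (mem_cm h).2 (mem_pp.2 (hn g hg hgv x (mem_pp.1 ((mem_cm h).1 hx))))) hs.1 (mem_pp.1 hs.2)
    (fun c e => ?_) (mem_pp.1 hw)
  rw [e, QuadraticMap.map_smul, smul_eq_mul, mul_eq_zero, mul_self_eq_zero] at hQs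
  exact h0 (by rw [e, hQs.resolve_right hv, zero_smul])

/-- **a canonical proper subspace** -/
theorem exists_can (hQ : Nondeg Q) (hd : finrank F V = 16) {v : V} (hv : Q v ≠ 0) {A : Set (V ≃ₗ[F] V)}
    (hA : ∀ a ∈ A, a ∈ O Q ∧ ∃ c : F, a v = c • v) {U : Submodule F V} (h8 : finrank F U = 8) (hU : ∀ a ∈ A, ∀ u ∈ U, a u ∈ U)
    (hvU : v ∉ U) (hUv : ∀ u ∈ U, polar Q v u = 0) {r : ℕ} (hr : r.Prime) (h3 : orderOf (Fintype.card F : ZMod r) = 3)
    {g : V ≃ₗ[F] V} (hgA : g ∈ A) (hg : g ^ r = 1) (hg1 : g ≠ 1) :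
    ∃ S : Submodule F V, (∀ a ∈ A, ∀ x ∈ S, a x ∈ S) ∧ (∃ s ∈ S, polar Q v s = 0 ∧ ∀ c : F, s ≠ c • v) ∧
      (∃ w, polar Q v w = 0 ∧ w ∉ S) ∧ ∀ (T : V ≃+ V) (σ : F ≃+* F) (μ : F) (h : IsSemi Q T σ μ),
        cm h (perp Q (Submodule.span F {v})) = perp Q (Submodule.span F {v}) →
        (∀ a ∈ A, ∃ a' ∈ A, ∀ x, a' (T x) = T (a x)) → cm h S = S := by
  classical
  have hv0 : v ≠ 0 := by
    rintro rfl
    exact hv (map_zero Q)
  have hW := finrank_pp hQ hv
  have hP : ∀ a ∈ A, ∀ x ∈ Submodule.span F {v}, a x ∈ Submodule.span F {v} := fun a ha x hx => by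
    obtain ⟨c, rfl⟩ := Submodule.mem_span_singleton.1 hx
    obtain ⟨-, d, hd⟩ := hA a ha
    rw [map_smul, hd, smul_smul]
    exact Submodule.mem_span_singleton.2 ⟨_, rfl⟩
  have hWI : ∀ a ∈ A, ∀ x ∈ perp Q (Submodule.span F {v}), a x ∈ perp Q (Submodule.span F {v}) := fun a ha x hx => by
    obtain ⟨h1, d, hd⟩ := hA a ha
    have h2 := polar_map h1 v x
    rw [mem_pp.1 hx, hd, polar_smul_left, smul_eq_zero] at h2
    refine mem_pp.2 (h2.resolve_left ?_)
    rintro rfl
    exact hv0 (a.map_eq_zero_iff.1 (hd.trans (zero_smul _ _)))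
  have hpp := H955.perp_perp hQ (Submodule.span F {v})
  have hUW : U ≤ perp Q (Submodule.span F {v}) := fun u hu => mem_pp.2 (hUv u hu)
  have hw : ∀ w ∈ perp Q (Submodule.span F {v}), polar Q v w = 0 := fun w => mem_pp.1
  generalize perp Q (Submodule.span F {v}) = W at hW hWI hpp hUW hw
  let I : Submodule F V → Prop := fun S => ∀ a ∈ A, ∀ x ∈ S, a x ∈ S
  have hI : ∀ S S', I S → I S' → I (S ⊔ S') := fun S S' h h' a ha x hx => by
    obtain ⟨y, hy, z, hz, rfl⟩ := Submodule.mem_sup.1 hx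
    rw [map_add]
    exact Submodule.add_mem_sup (h a ha y hy) (h' a ha z hz)
  have hI' : ∀ S S', I S → I S' → I (S ⊓ S') := fun S S' h h' a ha x hx => ⟨h a ha x hx.1, h' a ha x hx.2⟩
  set Z := W ⊓ Submodule.span F {v} with hZ
  have hZI : I Z := hI' _ _ hWI hP
  have hZ1 : finrank F Z ≤ 1 := (Submodule.finrank_mono inf_le_right).trans (finrank_span_singleton hv0).le
  have hUZ : finrank F (U ⊔ Z : Submodule F V) = 8 + finrank F Z := by
    have h1 := Submodule.finrank_sup_add_finrank_inf_eq U Z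
    have h2 : U ⊓ Z = ⊥ := eq_bot_iff.2 fun x hx => by
      obtain ⟨c, rfl⟩ := Submodule.mem_span_singleton.1 hx.2.2
      by_cases hc : c = 0
      · rw [hc, zero_smul]
        exact Submodule.zero_mem _
      · exact (hvU ((U.smul_mem_iff hc).1 hx.1)).elim
    rw [h2, finrank_bot] at h1
    omega
  have hex : ∃ n, ∃ S, I S ∧ Z < S ∧ S ≤ W ∧ finrank F S = n :=
    ⟨_, W, hWI, Submodule.lt_of_le_of_finrank_lt_finrank inf_le_left (by omega), le_rfl, rfl⟩
  let 𝒮 : Set (Submodule F V) := {S | I S ∧ Z < S ∧ S ≤ W ∧ finrank F S = Nat.find hex}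
  obtain ⟨S₀, hS₀⟩ : ∃ S, S ∈ 𝒮 := Nat.find_spec hex
  have hlt : finrank F Z < Nat.find hex := hS₀.2.2.2 ▸ Submodule.finrank_lt_finrank_of_lt hS₀.2.1
  have hle : sSup 𝒮 ≤ W := sSup_le fun S hS => hS.2.2.1
  refine ⟨sSup 𝒮, fun a ha x hx => ?_, ?_, ?_, fun T σ μ h h1 h2 => ?_⟩
  · exact (sSup_le fun S hS y hy => (le_sSup hS : S ≤ sSup 𝒮) (hS.1 a ha y hy) :
      sSup 𝒮 ≤ (sSup 𝒮).comap (a : V →ₗ[F] V)) hx
  · obtain ⟨s, hs, hs'⟩ := SetLike.exists_of_lt hS₀.2.1
    exact ⟨s, le_sSup hS₀ hs, hw s (hS₀.2.2.1 hs), fun c e =>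
      hs' ⟨hS₀.2.2.1 hs, Submodule.mem_span_singleton.2 ⟨c, e.symm⟩⟩⟩
  · by_contra hc
    push Not at hc
    have hE : sSup 𝒮 = W := le_antisymm hle fun w hw' => hc w (hw w hw')
    have hdv := dvd_dim (Z := Z) (e := Nat.find hex - finrank F Z) (𝒮 := 𝒮) hI (by omega) fun S hS =>
      ⟨hS.1, by rw [hS.2.2.2]; omega, fun U' k1 k2 => by
        rcases (le_inf hS.2.1.le k2).eq_or_lt with k | k
        · exact Or.inr k.symm
        · refine Or.inl (inf_eq_left.1 (Submodule.eq_of_le_of_finrank_le inf_le_left ?_))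
          rw [hS.2.2.2]
          exact Nat.find_min' hex ⟨_, hI' _ _ hS.1 k1, k, inf_le_left.trans hS.2.2.1, rfl⟩⟩
    rw [hE] at hdv
    have k1 := hdv (15 - finrank F Z) Z hZI le_rfl inf_le_left (by omega)
    have k2 := hdv (7 - finrank F Z) (U ⊔ Z) (hI _ _ hU hZI) le_sup_right (sup_le hUW inf_le_left) (by omega)
    have k3 : Nat.find hex - finrank F Z ≤ 2 := by
      have k4 := Nat.dvd_gcd k1 k2
      refine (Nat.le_of_dvd ?_ k4).trans ?_ <;> interval_cases finrank F Z <;> norm_num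
    have f1 := fix_of_ord hr h3 hg bot_le (hP g hgA) (fun z hz => by rw [(Submodule.mem_bot F).1 hz, map_zero])
      (by rw [finrank_span_singleton hv0]; omega)
    have f2 : W ≤ LinearMap.eqLocus (g : V →ₗ[F] V) LinearMap.id := hE ▸ sSup_le fun S hS =>
      fix_of_ord hr h3 hg hS.2.1.le (hS.1 g hgA) (fun z hz => f1 z hz.2) (by rw [hS.2.2.2]; omega)
    exact hg1 (LinearEquiv.ext fun x => fix_of_ord hr h3 hg (S := ⊤) le_top (fun _ _ => trivial) f2
      (by rw [finrank_top]; omega) x trivial)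
  · have h3 : cm h Z = Z := by
      ext x
      have h4 := cm_perp h W
      rw [h1, hpp] at h4
      exact and_congr (SetLike.ext_iff.1 h1 x) (SetLike.ext_iff.1 h4 x)
    have h4 : ∀ S ∈ 𝒮, cm h S ∈ 𝒮 := fun S hS => by
      have h5 : Z ≤ cm h S := fun x hx => hS.2.1.le (h3.symm ▸ hx : x ∈ cm h Z)
      refine ⟨fun a ha x hx => ?_, Submodule.lt_of_le_of_finrank_lt_finrank h5 ?_, fun x hx => h1 ▸ hS.2.2.1 hx,
        (finrank_cm h S).trans hS.2.2.2⟩
      · obtain ⟨a', ha', e⟩ := h2 a ha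
        rw [mem_cm, ← e]
        exact hS.1 a' ha' _ hx
      · rwa [finrank_cm, hS.2.2.2]
    refine Submodule.eq_of_le_of_finrank_eq (fun y hy => ?_) (finrank_cm h _)
    have h5 : sSup 𝒮 ≤ cm h.symm (sSup 𝒮) := sSup_le fun S hS x hx =>
      (le_sSup (h4 S hS) : cm h S ≤ sSup 𝒮) (by rwa [mem_cm, T.apply_symm_apply])
    have h6 := h5 hy
    rwa [mem_cm, T.symm_apply_apply] at h6

end Cfsg.Agent.SM.CS
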