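import Cfsg.Agent.SM.CS.Tr
import Cfsg.Agent.SM.Fac

/-!
# SM / CS: the list of rows, the socle, and the case that `T` is of class `S` (helper62)
-/

set_option autoImplicit false
set_option linter.unusedSectionVars false
set_option maxHeartbeats 400000

namespace Cfsg.Agent.SM.CS

open Cfsg Cfsg.Geo Matrix Subgroup
open Cfsg.Agent.H915.LD (Core FixQ)
open Cfsg.Agent.H879.Rx

section matrix

variable {ι : Type} [Fintype ι] [DecidableEq ι] {K : Type} [Field K] [Fintype K]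
  {q m : ℕ} {k : Kind} {B : (ι → K) → (ι → K) → K} {Sg : (ι → K) → Prop} {G X Y P : Subgroup (GL ι K)}

theorem mem_stab {W : Submodule K (ι → K)} {g : GL ι K} :
    g ∈ subspaceStabilizer W ↔ ∀ v, v ∈ W ↔ (g : Matrix ι ι K) *ᵥ v ∈ W := Iff.rfl

theorem scalars_le_stab (W : Submodule K (ι → K)) : scalars ι K ≤ subspaceStabilizer W := fun g hg v => by
  obtain ⟨c, hc⟩ := (mem_scalars_iff g).1 hg
  change v ∈ W ↔ (g : Matrix ι ι K) *ᵥ v ∈ W
  rw [hc, smul_mulVec, one_mulVec, W.smul_mem_iff c.ne_zero]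

theorem Sph.nd (h : Sph q m k B Sg G X) : IsNondegenerateForm B := by
  cases h with
  | u f hf => exact hf.nondegenerate
  | p1 Q hQ => exact hQ.nondegenerate
  | p2 Q hQ => exact hQ.nondegenerate
  | o Q hQ => exact hQ.nondegenerate
  | s Q hQ => exact hQ.nondegenerate

theorem Sph.sc (h : Sph q m k B Sg G X) (h0 : 0 < Fintype.card ι) : G ⊓ scalars ι K ≤ X := by
  cases h with
  | u => exact inf_le_right.trans (scalars_le_stab _)
  | p1 => exact inf_le_right.trans (scalars_le_stab _)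
  | p2 => exact inf_le_right.trans (scalars_le_stab _)
  | o => exact inf_le_right.trans (scalars_le_stab _)
  | s Q hQ =>
    rintro g ⟨h1, h2⟩ u v
    obtain ⟨c, hc⟩ := (mem_scalars_iff g).1 h2
    obtain ⟨i⟩ := Fintype.card_pos_iff.1 h0
    obtain ⟨⟨x, hx⟩, -⟩ := hQ.nondegenerate (Pi.single i 1) (by simp)
    have h3 : QuadraticMap.polar Q ((g : Matrix ι ι K) *ᵥ x) ((g : Matrix ι ι K) *ᵥ Pi.single i 1) = _ := h1 x (Pi.single i 1)
    rw [hc, smul_mulVec, smul_mulVec, one_mulVec, one_mulVec, hQ.polar_bilinear.smul_left, hQ.polar_bilinear.smul_right,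
      ← mul_assoc, mul_eq_right₀ hx] at h3
    change Q ((g : Matrix ι ι K) *ᵥ u) = Q u
    rw [hc, smul_mulVec, one_mulVec, hQ.smul, sq, h3, one_mul]

theorem relIndex_of_fac {Γ : Type*} [Group Γ] {G X Y : Subgroup Γ} (hY : Y ≤ G) (h : ∀ g ∈ G, ∃ y ∈ Y, ∃ x ∈ X, g = y * x) :
    X.relIndex Y = X.relIndex G := by
  let f : Y ⧸ X.subgroupOf Y → G ⧸ X.subgroupOf G := Quotient.map' (fun x : Y => (⟨x, hY x.2⟩ : G)) fun a b hab => by
    rw [QuotientGroup.leftRel_apply] at hab ⊢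
    exact hab
  refine Nat.card_congr (Equiv.ofBijective f ⟨fun a b => ?_, fun c => ?_⟩)
  · induction a using QuotientGroup.induction_on
    induction b using QuotientGroup.induction_on
    intro hab
    have h1 := QuotientGroup.eq.1 hab
    exact QuotientGroup.eq.2 h1
  · induction c using QuotientGroup.induction_on with
    | H g =>
      obtain ⟨y, hy, x, hx, e⟩ := h g g.2
      refine ⟨(⟨y, hy⟩ : Y), QuotientGroup.eq.2 ?_⟩
      change y⁻¹ * (g : Γ) ∈ X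
      rwa [e, inv_mul_cancel_left]

theorem hy_of (hT : BoxTi) (hI : BoxIdx) (hN : BoxNat) : BoxHy := fun ι _ _ K _ _ k q m B Sg G X Y P s c =>
  { c with
    sph := s
    pol := (hT ι K k q m B Sg G X Y P s c).1
    nd := s.nd
    tight := (hT ι K k q m B Sg G X Y P s c).2
    sc := s.sc (lt_of_lt_of_le (by norm_num) c.big)
    idx := by rw [relIndex_of_fac c.le c.fac]; exact hI ι K k q m B Sg G X s (le_trans (by norm_num) c.big)
    nat := hN ι K k q m B Sg G X Y P s c }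

/-- the five rows -/
def Rows (k : Kind) (q m : ℕ) (T : Type) [Group T] : Prop :=
  RowBo k q m T ∨ RowBe k q m T ∨ RowC k q m T ∨ RowF k q m T ∨ RowCo k q m T

theorem rows_fin (hD : BoxD) (hX : BoxX) {n : ℕ} {B : (Fin n → K) → (Fin n → K) → K} {Sg : (Fin n → K) → Prop}
    {G X Y P : Subgroup (GL (Fin n) K)} (h : Hy k q m B Sg G X Y P) : Rows k q m (H915.LD.Soc P) := by
  obtain ⟨p, hp⟩ := CharP.exists K
  have hpp := CharP.char_is_prime K p
  by_cases hT : IsLieTypeChar p (H915.LD.Soc P)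
  · rcases hD n K k q m B Sg G X Y P h p hpp hp hT with h | h | h | h
    · exact Or.inl h
    · exact Or.inr (Or.inl h)
    · exact Or.inr (Or.inr (Or.inl h))
    · exact Or.inr (Or.inr (Or.inr (Or.inl h)))
  · exact Or.inr (Or.inr (Or.inr (Or.inr (hX n K k q m B Sg G X Y P h p hpp hp hT))))

/-- **the kinds `u`, `p2`, `s` are empty** (any index type) -/
theorem kind_of (hH : BoxHy) (hD : BoxD) (hX : BoxX) (s : Sph q m k B Sg G X) (c : Cs k G X Y P) : k = .p1 ∨ k = .o := by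
  let e := Fintype.equivFin ι
  rcases rows_fin hD hX (hH _ K k q m _ _ _ _ _ _ (s.re e) (c.re e)) with h | h | h | h | h
  · exact Or.inl h.1
  · exact Or.inl h.1
  · exact Or.inr h.1
  · exact Or.inr h.1
  · exact Or.inl h.1

theorem RowCo.congr {T T' : Type} [Group T] [Group T'] (h : RowCo k q m T) (e : T' ≃* T) : RowCo k q m T' :=
  ⟨h.1, h.2.1, h.2.2.1, h.2.2.2.map e.trans⟩

theorem mem_img {x : H915.LD.Soc P} : x ∈ img X P ↔ ∃ p : P, (p : GL ι K) ∈ X ∧ QuotientGroup.mk p = x := Iff.rfl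

theorem mk_mem_img (hs : P ⊓ scalars ι K ≤ X) {p : P} : (QuotientGroup.mk p : H915.LD.Soc P) ∈ img X P ↔ (p : GL ι K) ∈ X := by
  refine ⟨fun ⟨x, hx, e⟩ => ?_, fun h => ⟨p, h, rfl⟩⟩
  have h1 : ((x⁻¹ * p : P) : GL ι K) ∈ X := hs ⟨(x⁻¹ * p).2, (QuotientGroup.eq (s := (scalars ι K).subgroupOf P)).1 e⟩
  have h2 := X.mul_mem hx h1
  rwa [coe_mul, coe_inv, coe_subtype, mul_inv_cancel_left] at h2

end matrix

theorem map_conj_of_mem {T : Type} [Group T] {A : Subgroup T} {a : T} (ha : a ∈ A) : A.map (MulAut.conj a).toMonoidHom = A := by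
  ext x
  constructor
  · rintro ⟨y, hy, rfl⟩
    exact A.mul_mem (A.mul_mem ha hy) (A.inv_mem ha)
  · intro hx
    exact ⟨a⁻¹ * x * a, A.mul_mem (A.mul_mem (A.inv_mem ha) hx) ha, by simp [mul_assoc]⟩

theorem not_prm_of_inv {n : ℕ} {K : Type} [Field K] [Fintype K] {X P : Subgroup (GL (Fin n) K)} (hC : Core P)
    (hs : P ⊓ scalars (Fin n) K ≤ X) (h : Inv X P) : ¬ Prm (img X P) := by
  obtain ⟨z, -, -, hz, ⟨c, hc, hcX⟩, hφ⟩ := h
  intro hp
  have k1 : img X P ≤ centralizer {(QuotientGroup.mk z : H915.LD.Soc P)} := fun a ha => by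
    rw [mem_centralizer_singleton_iff]
    exact mul_inv_eq_iff_eq_mul.1 (hφ _ (map_conj_of_mem ha))
  have k2 : ∀ φ : MulAut (H915.LD.Soc P), (img X P).map φ.toMonoidHom = img X P →
      (centralizer {(QuotientGroup.mk z : H915.LD.Soc P)}).map φ.toMonoidHom = centralizer {QuotientGroup.mk z} := fun φ h1 => by
    have h2 := hφ φ h1
    ext x
    rw [mem_map_equiv, mem_centralizer_singleton_iff, mem_centralizer_singleton_iff, ← φ.apply_eq_iff_eq, map_mul, map_mul,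
      h2, φ.apply_symm_apply]
  rcases hp _ k1 k2 with h1 | h1
  · refine hcX ((mk_mem_img hs).1 (h1 ▸ ?_))
    rw [mem_centralizer_singleton_iff, ← QuotientGroup.mk_mul, hc, QuotientGroup.mk_mul]
  · have := hC.simple
    have h2 : (QuotientGroup.mk z : H915.LD.Soc P) ∈ center _ :=
      mem_center_iff.2 fun g => mem_centralizer_singleton_iff.1 (h1.symm ▸ mem_top g)
    rcases (inferInstance : (center (H915.LD.Soc P)).Normal).eq_bot_or_eq_top with h3 | h3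
    · rw [h3, mem_bot, QuotientGroup.eq_one_iff] at h2
      exact hz h2
    · exact hC.nonabelian ⟨⟨fun a b => (mem_center_iff.1 (h3.symm ▸ mem_top b : b ∈ center _) a)⟩⟩

/-- conjugation on the image of an injective homomorphism -/
theorem exists_aut {T Γ : Type} [Group T] [Group Γ] {j : T →* Γ} (hj : Function.Injective j) {g : Γ}
    (hg : g ∈ normalizer (j.range : Set Γ)) : ∃ φ : MulAut T, ∀ x, j (φ x) = g * j x * g⁻¹ := by
  let e := MonoidHom.ofInjective hj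
  refine ⟨(e.trans (j.range.normalizerMonoidHom ⟨g, hg⟩)).trans e.symm, fun x => ?_⟩
  have h := MonoidHom.apply_ofInjective_symm hj (j.range.normalizerMonoidHom ⟨g, hg⟩ (e x))
  exact h

theorem mem_norm_of_conj {Γ : Type} [Group Γ] {L N : Subgroup Γ} (h : ∀ g ∈ L, ∀ x ∈ N, g * x * g⁻¹ ∈ N) {g : Γ} (hg : g ∈ L) :
    g ∈ normalizer (N : Set Γ) :=
  mem_normalizer_iff.2 fun x => ⟨h g hg x, fun hx => by simpa [mul_assoc] using h g⁻¹ (L.inv_mem hg) _ hx⟩

theorem comap_map_aut {T Γ : Type} [Group T] [Group Γ] {j : T →* Γ} {g : Γ} {φ : MulAut T} (h : ∀ x, j (φ x) = g * j x * g⁻¹)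
    {Z : Subgroup Γ} (hg : g ∈ Z) : (Z.comap j).map φ.toMonoidHom = Z.comap j := by
  ext x
  obtain ⟨x, rfl⟩ := φ.surjective x
  rw [mem_map_equiv, φ.symm_apply_apply, mem_comap, mem_comap, h]
  exact mem_normalizer_iff.1 (le_normalizer hg) _

section cov

variable {ι : Type} [Fintype ι] [DecidableEq ι] {K : Type} [Field K] [Fintype K] {Γ : Type} [Group Γ]
  {G X P : Subgroup (GL ι K)} {π : G →* Γ} {M S H T B Z : Subgroup Γ}

theorem pre_le : pre π Z ≤ G := map_subtype_le _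

theorem pre_mono {Z' : Subgroup Γ} (h : Z ≤ Z') : pre π Z ≤ pre π Z' := map_mono (comap_mono h)

theorem Cov.mem (c : Cov G π S) (g : G) : π g ∈ S := c.range ▸ ⟨g, rfl⟩

theorem Cov.surj (c : Cov G π S) {s : Γ} (hs : s ∈ S) : ∃ g, π g = s := by rwa [← c.range] at hs

/-- `P / scalars → Γ` -/
def Cov.emb (c : Cov G π S) (hP : P ≤ G) : H915.LD.Soc P →* Γ :=
  QuotientGroup.lift _ (π.comp (inclusion hP)) fun _ hx => (c.ker _).2 hx

theorem Cov.emb_mk (c : Cov G π S) (hP : P ≤ G) (p : P) : c.emb hP (QuotientGroup.mk p) = π ⟨p, hP p.2⟩ := rfl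

theorem Cov.emb_inj (c : Cov G π S) (hP : P ≤ G) : Function.Injective (c.emb hP) := by
  rw [injective_iff_map_eq_one]
  intro x hx
  induction x using QuotientGroup.induction_on with
  | H p => exact (QuotientGroup.eq_one_iff p).2 ((c.ker _).1 hx)

theorem Cov.mem_emb (c : Cov G π S) (hP : P ≤ G) {x : Γ} : x ∈ (c.emb hP).range ↔ ∃ p : P, π ⟨p, hP p.2⟩ = x := by
  constructor
  · rintro ⟨y, rfl⟩
    induction y using QuotientGroup.induction_on with
    | H p => exact ⟨p, rfl⟩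
  · rintro ⟨p, rfl⟩
    exact ⟨QuotientGroup.mk p, rfl⟩

theorem Cov.as (c : Cov G π S) (h : IsResidualCore (pre π Z) P) : AS (Z ⊓ S) (c.emb (h.le.trans pre_le)).range := by
  have e := MonoidHom.ofInjective (c.emb_inj (h.le.trans pre_le))
  have := h.simple
  refine ⟨fun x hx => ?_, fun g hg x hx => ?_, e.symm.isSimpleGroup, fun hc => h.nonabelian ⟨⟨fun a b => e.injective ?_⟩⟩,
    fun g hg hc => ?_⟩
  · obtain ⟨p, rfl⟩ := (c.mem_emb _).1 hx
    exact ⟨(mem_pre.1 (h.le p.2)).2, c.mem _⟩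
  · obtain ⟨p, rfl⟩ := (c.mem_emb _).1 hx
    obtain ⟨g, rfl⟩ := c.surj hg.2
    refine (c.mem_emb _).2 ⟨⟨_, h.normal g (mem_pre.2 ⟨g.2, hg.1⟩) p p.2⟩, ?_⟩
    rw [← map_inv, ← map_mul, ← map_mul]
    rfl
  · rw [map_mul, map_mul]
    exact hc.is_comm.comm _ _
  · obtain ⟨g, rfl⟩ := c.surj hg.2
    refine (c.ker g).2 (h.centralizer_scalar g (mem_pre.2 ⟨g.2, hg.1⟩) fun x hx => ?_)
    have h1 := hc _ ((c.mem_emb (h.le.trans pre_le)).2 ⟨⟨x, hx⟩, rfl⟩)
    have h2 : ∀ y : G, π g * π y = π y * π g → π (g * y * g⁻¹ * y⁻¹) = 1 := fun y hy => by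
      rw [map_mul, map_mul, map_mul, map_inv, map_inv, hy]
      group
    exact (c.ker _).1 (h2 _ h1)

theorem Cov.img_eq (c : Cov G π S) (hP : P ≤ G) (hZ : pre π Z = G ⊓ X) : img X P = Z.comap (c.emb hP) := by
  ext x
  induction x using QuotientGroup.induction_on with
  | H p =>
    rw [mk_mem_img, mem_comap, c.emb_mk]
    · constructor
      · intro h
        exact (mem_pre.1 (hZ.symm ▸ (⟨hP p.2, h⟩ : (p : GL ι K) ∈ G ⊓ X))).2
      · intro h
        exact (hZ ▸ mem_pre.2 ⟨hP p.2, h⟩ : (p : GL ι K) ∈ G ⊓ X).2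
    · rintro g ⟨h1, h2⟩
      refine (hZ ▸ mem_pre.2 ⟨hP h1, ?_⟩ : g ∈ G ⊓ X).2
      rw [(c.ker _).2 h2]
      exact Z.one_mem

theorem Cov.prop (c : Cov G π S) (h : ¬ S ≤ Z) : ¬ G ≤ pre π Z ⊔ scalars ι K := fun h1 => h fun s hs => by
  obtain ⟨g, rfl⟩ := c.surj hs
  have h2 : (g : GL ι K) ∈ ((pre π Z ⊔ scalars ι K : Subgroup (GL ι K)) : Set (GL ι K)) := h1 g.2
  rw [mul_normal] at h2
  obtain ⟨y, hy, x, hx, e⟩ := h2
  obtain ⟨hy1, hy2⟩ := mem_pre.1 hy
  have e' : y * x = g := e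
  have hx1 : x ∈ G := (G.mul_mem_cancel_left hy1).1 (e'.symm ▸ g.2 : y * x ∈ G)
  have h3 : g = ⟨y, hy1⟩ * ⟨x, hx1⟩ := Subtype.ext e.symm
  rw [h3, map_mul, (c.ker ⟨x, hx1⟩).2 hx, mul_one]
  exact hy2

theorem Cov.fac (c : Cov G π S) {Z' : Subgroup Γ} (h : ∀ s ∈ S, ∃ a ∈ Z ⊓ S, ∃ b ∈ Z', s = a * b) :
    ∀ g ∈ G, ∃ y ∈ pre π Z, ∃ x ∈ pre π Z', g = y * x := fun g hg => by
  obtain ⟨a, ha, b, hb, e⟩ := h _ (c.mem ⟨g, hg⟩)
  obtain ⟨y, rfl⟩ := c.surj ha.2
  refine ⟨y, mem_pre.2 ⟨y.2, ha.1⟩, (y : GL ι K)⁻¹ * g, mem_pre.2 ⟨(y⁻¹ * ⟨g, hg⟩).2, ?_⟩, by group⟩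
  change π (y⁻¹ * ⟨g, hg⟩) ∈ Z'
  rwa [map_mul, map_inv, e, inv_mul_cancel_left]

theorem as_uniq {Y T' : Subgroup Γ} (h : AS Y T) (h' : AS Y T') : T = T' :=
  le_antisymm (h.le_of_conj h'.le (fun g hg => h'.conj g (h.le hg)) h'.ne_bot)
    (h'.le_of_conj h.le (fun g hg => h.conj g (h'.le hg)) h.ne_bot)

theorem prm_of_fac (f : Fac M S H T B) {T₀ : Type} [Group T₀] {j : T₀ →* Γ} (hj : Function.Injective j) (hr : j.range = T) :
    Prm (B.comap j) := by
  intro C h1 h2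
  have k1 : T ⊓ B ≤ C.map j := fun x hx => by
    obtain ⟨y, rfl⟩ : x ∈ j.range := hr.symm ▸ hx.1
    exact mem_map_of_mem j (h1 hx.2)
  have k2 : ∀ g ∈ H ⊓ B, ∀ x ∈ C.map j, g * x * g⁻¹ ∈ C.map j := fun g hg x hx => by
    obtain ⟨φ, hφ⟩ := exists_aut hj (hr.symm ▸ f.asH.le_normalizer hg.1)
    obtain ⟨y, hy, rfl⟩ := hx
    rw [← hφ]
    exact mem_map_of_mem j (h2 φ (comap_map_aut hφ hg.2) ▸ mem_map_of_mem φ.toMonoidHom hy)
  rcases f.prim k1 (hr ▸ map_le_range _ _) k2 with h | h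
  · refine Or.inl (le_antisymm (fun x hx => ?_) h1)
    exact (h ▸ mem_map_of_mem j hx : j x ∈ T ⊓ B).2
  · refine Or.inr (eq_top_iff.2 fun x _ => ?_)
    exact (mem_map_iff_mem hj).1 (h.symm ▸ hr ▸ ⟨x, rfl⟩ : j x ∈ C.map j)

end cov

theorem cs1_of (hH : BoxHy) (hD : BoxD) (hX : BoxX) (hBo : BoxBo) (hBe : BoxBe) (hC : BoxC) (hF : BoxF) : CS1 := by
  intro ι _ _ K _ _ Γ _ _ M S H T B k q m f Sg G X P π Y fa s c hn hB h1 h2 hP hq
  let e := Fintype.equivFin ι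
  have hn' : 13 ≤ Fintype.card (Fin (Fintype.card ι)) := by rwa [Fintype.card_fin]
  have s' := s.re e
  have c' := c.re e
  have hB' : pre (πx e π) B = rx e G ⊓ rx e X := by rw [pre_re, hB, rx_inf]
  have hP' : IsResidualCore (pre (πx e π) Y) (rx e P) := pre_re e π Y ▸ res_re e hP
  have hq' : k = .s → ¬ FixQ (rx e P) := fun h => nq_re e (hq h)
  generalize πx e π = π' at c' hB' hP'
  generalize rx e P = P' at hP' hq'
  generalize rx e X = X' at s' hB'
  generalize rx e G = G' at *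
  have hG := hP'.le.trans pre_le
  have hT : (c'.emb hG).range = T := as_uniq (c'.as hP') (fa.asH.mono (le_inf h1 fa.le) (inf_le_left.trans h2))
  have hPT : P' ≤ pre π' T := fun p hp => mem_pre.2 ⟨hG hp, hT ▸ (c'.mem_emb hG).2 ⟨⟨p, hp⟩, rfl⟩⟩
  have hm : pre π' T ≤ pre π' Y := pre_mono h1
  have cs : Cs k G' X' (pre π' T) P' := ⟨hn', ⟨hPT, fun g hg => hP'.normal g (hm hg), hP'.perfect, hP'.simple, hP'.nonabelian,
      fun g hg => hP'.centralizer_scalar g (hm hg), hP'.absIrred, hP'.no_subfield⟩, pre_le,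
    c'.prop fun h => fa.nH (h.trans fa.asH.le), fun g hg => by
      obtain ⟨y, hy, x, hx, e⟩ := c'.fac (Z := T) (Z' := B) (fun s hs => by
        obtain ⟨t, ht, b, hb, e⟩ := fa.fac s hs
        exact ⟨t, ⟨ht, fa.le ht⟩, b, hb, e⟩) g hg
      exact ⟨y, hy, x, (hB' ▸ hx : x ∈ G' ⊓ X').2, e⟩, hq'⟩
  have hy := hH _ K k q m _ _ _ _ _ _ s' cs
  have hp : Prm (img X' P') := c'.img_eq hG hB' ▸ prm_of_fac fa (c'.emb_inj hG) hT
  have hle : pre π' T ≤ P' ⊔ scalars _ K := fun g hg => by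
    obtain ⟨hg1, hg2⟩ := mem_pre.1 hg
    obtain ⟨p, hp⟩ := (c'.mem_emb hG).1 (hT.symm ▸ hg2)
    have h3 : (p : GL _ K)⁻¹ * g ∈ scalars _ K := (c'.ker ((⟨p, hG p.2⟩ : G')⁻¹ * ⟨g, hg1⟩)).1 (by
      rw [map_mul, map_inv, hp, inv_mul_cancel])
    rw [← mul_inv_cancel_left (p : GL _ K) g]
    exact mul_mem_sup p.2 h3
  have hs : P' ⊓ scalars _ K ≤ X' := (inf_le_inf_right _ hG).trans hy.sc
  have hc := H915.LD.core_of_residual hP'
  rcases rows_fin hD hX hy with h | h | h | h | h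
  · exact ((hBo _ K k q m _ _ _ _ _ _ hy h).2 hle hp).elim
  · exact ((hBe _ K k q m _ _ _ _ _ _ hy h).2 hle hp).elim
  · exact (not_prm_of_inv hc hs (hC _ K k q m _ _ _ _ _ _ hy h) hp).elim
  · exact (not_prm_of_inv hc hs (hF _ K k q m _ _ _ _ _ _ hy h) hp).elim
  · exact h.congr (hT ▸ (MonoidHom.ofInjective (c'.emb_inj hG)).symm)

end Cfsg.Agent.SM.CS
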