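import Cfsg.Agent.SM.CS.Defs
import Cfsg.Agent.H879.TL.Reindex

/-!
# SM / CS: reindexing (helper62)
-/

set_option autoImplicit false
set_option linter.unusedSectionVars false

namespace Cfsg.Agent.SM.CS

open Cfsg Cfsg.Geo Matrix Subgroup
open Cfsg.Agent.H915.LD (Core FixQ)
open Cfsg.Agent.H879.Rx

variable {ι κ : Type} [Fintype ι] [DecidableEq ι] [Fintype κ] [DecidableEq κ] {K : Type} [Field K] [Fintype K] (e : ι ≃ κ)

theorem mem_rx' {P : Subgroup (GL ι K)} {g : GL ι K} : glReindex e g ∈ rx e P ↔ g ∈ P :=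
  mem_map_iff_mem (f := (glReindex (F := K) e).toMonoidHom) (glReindex e).injective

theorem rx_ext {P : Subgroup (GL ι K)} {R : Subgroup (GL κ K)} (h : ∀ g, glReindex e g ∈ R ↔ g ∈ P) : R = rx e P := by
  ext x
  obtain ⟨g, rfl⟩ := (glReindex (F := K) e).surjective x
  rw [h, mem_rx']

theorem re_ap (g : GL ι K) (v : κ → K) :
    (((glReindex e g : GL κ K) : Matrix κ κ K) *ᵥ v) ∘ e = (g : Matrix ι ι K) *ᵥ (v ∘ e) := by
  have h := re_mulVec e (g : Matrix ι ι K) (v ∘ e)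
  have h1 : (v ∘ e) ∘ e.symm = v := by funext i; simp
  rw [h1] at h
  rw [coe_re, h]
  funext i
  simp

theorem comp_surj (v : ι → K) : ∃ w : κ → K, w ∘ e = v := ⟨v ∘ e.symm, by funext i; simp⟩

/-- `v ↦ v ∘ e` -/
def cE : (κ → K) ≃ₗ[K] (ι → K) := LinearEquiv.funCongrLeft K K e

theorem cE_apply (v : κ → K) : cE e v = v ∘ e := rfl

/-- the reindexed subspace -/
def sx (W : Submodule K (ι → K)) : Submodule K (κ → K) := W.comap (cE e).toLinearMap

theorem mem_sx {W : Submodule K (ι → K)} {v : κ → K} : v ∈ sx e W ↔ v ∘ e ∈ W := Iff.rfl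

theorem finrank_sx (W : Submodule K (ι → K)) : Module.finrank K (sx e W) = Module.finrank K W := by
  unfold sx
  rw [Submodule.comap_equiv_eq_map_symm]
  exact LinearEquiv.finrank_map_eq _ _

theorem sx_span (v : κ → K) : sx e (Submodule.span K {v ∘ e}) = Submodule.span K {v} := by
  ext w
  rw [mem_sx, Submodule.mem_span_singleton, Submodule.mem_span_singleton]
  refine exists_congr fun c => ⟨fun h => (cE e).injective ?_, fun h => ?_⟩
  · rw [map_smul]
    exact h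
  · rw [← h]
    rfl

theorem rx_stab (W : Submodule K (ι → K)) : subspaceStabilizer (sx e W) = rx e (subspaceStabilizer W) := by
  refine rx_ext e fun g => ⟨fun h v => ?_, fun h v => ?_⟩
  · obtain ⟨w, rfl⟩ := comp_surj e v
    have h1 := h w
    change w ∘ e ∈ W ↔ (((glReindex e g : GL κ K) : Matrix κ κ K) *ᵥ w) ∘ e ∈ W at h1
    rw [re_ap] at h1
    exact h1
  · change v ∘ e ∈ W ↔ (((glReindex e g : GL κ K) : Matrix κ κ K) *ᵥ v) ∘ e ∈ W
    rw [re_ap]
    exact h _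

theorem rx_iso (f : (ι → K) → (ι → K) → K) : Iso (fun x y : κ → K => f (x ∘ e) (y ∘ e)) = rx e (Iso f) := by
  refine rx_ext e fun g => ⟨fun h u v => ?_, fun h u v => ?_⟩
  · obtain ⟨w, rfl⟩ := comp_surj e v
    obtain ⟨x, rfl⟩ := comp_surj e u
    have h1 := h x w
    change f ((((glReindex e g : GL κ K) : Matrix κ κ K) *ᵥ x) ∘ e) ((((glReindex e g : GL κ K) : Matrix κ κ K) *ᵥ w) ∘ e) = _ at h1
    rw [re_ap, re_ap] at h1
    exact h1
  · change f ((((glReindex e g : GL κ K) : Matrix κ κ K) *ᵥ u) ∘ e) ((((glReindex e g : GL κ K) : Matrix κ κ K) *ᵥ v) ∘ e) = _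
    rw [re_ap, re_ap]
    exact h _ _

theorem rx_isom (Q : (ι → K) → K) : isometryGroup K (fun x : κ → K => Q (x ∘ e)) = rx e (isometryGroup K Q) :=
  rx_iso e fun u _ => Q u

theorem omegaGL_eq (Q : (ι → K) → K) : omegaGL Q = ⁅isometryGroup K Q, isometryGroup K Q⁆ := by
  unfold omegaGL
  rw [Omega, commutator_def, map_commutator, ← MonoidHom.range_eq_map, range_subtype]

theorem rx_omega (Q : (ι → K) → K) : omegaGL (fun x : κ → K => Q (x ∘ e)) = rx e (omegaGL Q) := by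
  rw [omegaGL_eq, omegaGL_eq, rx_isom]
  exact (map_commutator _ _ _).symm

theorem rx_sl : specialLinear κ K = rx e (specialLinear ι K) := by
  refine rx_ext e fun g => ?_
  have h : Matrix.GeneralLinearGroup.det (glReindex e g : GL κ K) = Matrix.GeneralLinearGroup.det g :=
    Units.ext (Matrix.det_reindex_self e (g : Matrix ι ι K))
  change Matrix.GeneralLinearGroup.det (glReindex e g : GL κ K) = 1 ↔ Matrix.GeneralLinearGroup.det g = 1
  rw [h]

theorem rx_sc : scalars κ K = rx e (scalars ι K) := rx_ext e fun _ => scalar_re e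

theorem rx_inf (A B : Subgroup (GL ι K)) : rx e (A ⊓ B) = rx e A ⊓ rx e B :=
  map_inf_eq _ _ _ (glReindex e).injective

theorem rx_sup (A B : Subgroup (GL ι K)) : rx e (A ⊔ B) = rx e A ⊔ rx e B := map_sup _ _ _

theorem rx_le {A B : Subgroup (GL ι K)} : rx e A ≤ rx e B ↔ A ≤ B := map_le_map_iff_of_injective (glReindex e).injective

theorem nd_re {f : (ι → K) → (ι → K) → K} (h : IsNondegenerateForm f) :
    IsNondegenerateForm fun x y : κ → K => f (x ∘ e) (y ∘ e) := by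
  intro v hv
  obtain ⟨⟨x, hx⟩, y, hy⟩ := h (v ∘ e) fun h0 => hv ((cE e).injective (h0.trans (map_zero _).symm))
  obtain ⟨x, rfl⟩ := comp_surj e x
  obtain ⟨y, rfl⟩ := comp_surj e y
  exact ⟨⟨x, hx⟩, y, hy⟩

theorem quad_re {Q : (ι → K) → K} (h : IsNondegenerateQuadraticForm Q) :
    IsNondegenerateQuadraticForm fun x : κ → K => Q (x ∘ e) :=
  ⟨fun c v => h.smul c (v ∘ e), ⟨fun _ _ _ => h.polar_bilinear.add_left _ _ _, fun c _ _ => h.polar_bilinear.smul_left c _ _,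
    fun _ _ _ => h.polar_bilinear.add_right _ _ _, fun c _ _ => h.polar_bilinear.smul_right c _ _⟩, nd_re e h.nondegenerate⟩

theorem plus_re {Q : (ι → K) → K} {W : Submodule K (ι → K)} :
    IsPlusTypeOn (fun x : κ → K => Q (x ∘ e)) (sx e W) ↔ IsPlusTypeOn Q W := by
  constructor
  · rintro ⟨U, h1, h2, h3⟩
    refine ⟨U.map (cE e).toLinearMap, ?_, ?_, ?_⟩
    · rintro _ ⟨u, hu, rfl⟩
      exact h1 hu
    · rintro _ ⟨u, hu, rfl⟩
      exact h2 u hu
    · rw [LinearEquiv.finrank_map_eq, h3, finrank_sx]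
  · rintro ⟨U, h1, h2, h3⟩
    exact ⟨sx e U, fun u hu => h1 hu, fun u hu => h2 _ hu, by rw [finrank_sx, finrank_sx, h3]⟩

theorem sx_top : sx e (⊤ : Submodule K (ι → K)) = ⊤ := Submodule.comap_top _

variable {q m : ℕ} {k : Kind} {B : (ι → K) → (ι → K) → K} {Sg : (ι → K) → Prop} {G X Y P : Subgroup (GL ι K)}

theorem Sph.re (h : Sph q m k B Sg G X) :
    Sph q m k (fun x y : κ → K => B (x ∘ e) (y ∘ e)) (fun x => Sg (x ∘ e)) (rx e G) (rx e X) := by
  have hc : Fintype.card κ = Fintype.card ι := (Fintype.card_congr e).symm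
  cases h with
  | u f hf hK hd v hv =>
    obtain ⟨v, rfl⟩ := comp_surj e v
    rw [rx_inf, ← rx_iso, ← rx_sl, ← rx_stab, sx_span]
    exact .u (fun x y : κ → K => B (x ∘ e) (y ∘ e)) ⟨fun _ _ _ => hf.add_left _ _ _, fun c _ _ => hf.smul_left c _ _, fun _ _ => hf.herm _ _,
      nd_re e hf.nondegenerate⟩ hK (hc.trans hd) v hv
  | p1 Q hQ hp hK hd v hv =>
    obtain ⟨v, rfl⟩ := comp_surj e v
    rw [← rx_omega, ← rx_stab, sx_span]
    exact .p1 (fun x : κ → K => Q (x ∘ e)) (quad_re e hQ) (sx_top (K := K) e ▸ (plus_re e).2 hp) hK (hc.trans hd) v hv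
  | p2 Q hQ hp hK hd W h2 hW =>
    rw [← rx_omega, ← rx_stab]
    exact .p2 (fun x : κ → K => Q (x ∘ e)) (quad_re e hQ) (sx_top (K := K) e ▸ (plus_re e).2 hp) hK (hc.trans hd) _
      ((finrank_sx e W).trans h2) fun w hw h0 => (cE e).injective ((hW _ hw h0).trans (map_zero _).symm)
  | o Q hQ hK hq hd W h2 hn hW =>
    rw [← rx_omega, ← rx_stab]
    refine .o (fun x : κ → K => Q (x ∘ e)) (quad_re e hQ) hK hq (hc.trans hd) _ ((finrank_sx e W).trans h2)
      (fun w hw h0 => ?_) fun h => hW ((plus_re e).1 h)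
    obtain ⟨⟨x, hx, hx'⟩, y, hy, hy'⟩ := hn (w ∘ e) hw fun h1 => h0 ((cE e).injective (h1.trans (map_zero _).symm))
    obtain ⟨x, rfl⟩ := comp_surj e x
    obtain ⟨y, rfl⟩ := comp_surj e y
    exact ⟨⟨x, hx, hx'⟩, y, hy, hy'⟩
  | s Q hQ hp hK hq hd =>
    rw [← rx_iso, ← rx_isom]
    exact .s (fun x : κ → K => Q (x ∘ e)) (quad_re e hQ) (fun h => hp ((plus_re e).1 ((sx_top (K := K) e).symm ▸ h))) hK hq
      (hc.trans hd)

theorem res_re (h : IsResidualCore Y P) : IsResidualCore (rx e Y) (rx e P) := by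
  have hC := core_rx e (H915.LD.core_of_residual h)
  refine ⟨(rx_le e).2 h.le, ?_, hC.perfect, hC.simple, hC.nonabelian, ?_, hC.absIrred, hC.no_subfield⟩
  · rintro _ ⟨y, hy, rfl⟩ _ ⟨x, hx, rfl⟩
    rw [← map_inv, ← map_mul, ← map_mul]
    exact ⟨_, h.normal y hy x hx, rfl⟩
  · rintro _ ⟨y, hy, rfl⟩ h1
    refine (scalar_re e).2 (h.centralizer_scalar y hy fun x hx => (scalar_re e).1 ?_)
    rw [map_mul, map_mul, map_mul, map_inv, map_inv]
    exact h1 _ ⟨x, hx, rfl⟩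

theorem nq_re (h : ¬ FixQ P) : ¬ FixQ (rx e P) := fun h1 => h (rx_symm e P ▸ fixQ_rx e.symm h1)

theorem Cs.re (h : Cs k G X Y P) : Cs k (rx e G) (rx e X) (rx e Y) (rx e P) := by
  refine ⟨Fintype.card_congr e ▸ h.big, res_re e h.core, (rx_le e).2 h.le, ?_, ?_, fun hk => nq_re e (h.nq hk)⟩
  · rw [rx_sc e, ← rx_sup, rx_le]
    exact h.prop
  · rintro _ ⟨g, hg, rfl⟩
    obtain ⟨y, hy, x, hx, rfl⟩ := h.fac g hg
    exact ⟨_, ⟨y, hy, rfl⟩, _, ⟨x, hx, rfl⟩, map_mul _ _ _⟩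

variable {Γ : Type} [Group Γ] {S : Subgroup Γ}

/-- the reindexed covering -/
noncomputable def πx (π : G →* Γ) : rx e G →* Γ := π.comp (eqv e G).symm.toMonoidHom

theorem πx_eqv (π : G →* Γ) (g : G) : πx e π (eqv e G g) = π g := congrArg π ((eqv e G).symm_apply_apply g)

theorem Cov.re {π : G →* Γ} (h : Cov G π S) : Cov (rx e G) (πx e π) S := by
  refine ⟨?_, fun g => ?_⟩
  · rw [← h.range]
    ext x
    constructor
    · rintro ⟨g, rfl⟩
      exact ⟨_, rfl⟩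
    · rintro ⟨g, rfl⟩
      exact ⟨_, πx_eqv e π g⟩
  · obtain ⟨g, rfl⟩ := (eqv e G).surjective g
    rw [πx_eqv, eqv_coe, scalar_re, h.ker]

theorem mem_pre {π : G →* Γ} {Z : Subgroup Γ} {g : GL ι K} : g ∈ pre π Z ↔ ∃ h : g ∈ G, π ⟨g, h⟩ ∈ Z :=
  ⟨fun ⟨x, hx, e⟩ => by subst e; exact ⟨x.2, hx⟩, fun ⟨h, h1⟩ => ⟨⟨g, h⟩, h1, rfl⟩⟩

theorem pre_re (π : G →* Γ) (Z : Subgroup Γ) : pre (πx e π) Z = rx e (pre π Z) := by
  refine rx_ext e fun g => ?_
  rw [mem_pre, mem_pre]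
  constructor
  · rintro ⟨h, h1⟩
    refine ⟨(mem_rx' e).1 h, ?_⟩
    rw [← πx_eqv e]
    exact h1
  · rintro ⟨h, h1⟩
    refine ⟨(mem_rx' e).2 h, ?_⟩
    rw [← πx_eqv e] at h1
    exact h1

end Cfsg.Agent.SM.CS
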