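import Cfsg.Agent.SM.CS.Num
import Cfsg.Agent.SM.CS.Lin
import Cfsg.Agent.SM.CSi.Cnt
import Cfsg.Agent.H568.EP.Ord
import Cfsg.Agent.ClassicalGeometry.OrthAut4

/-!
# SM / CS: the case that `B` is of class `S` (helper62)
-/

set_option autoImplicit false
set_option linter.unusedSectionVars false
set_option maxHeartbeats 400000

namespace Cfsg.Agent.SM.CS

open Cfsg Cfsg.Geo Matrix Subgroup Module QuadraticMap
open Cfsg.Agent.LieClassical.OrthCore Cfsg.Agent.LieClassical.OrthFinite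
open Cfsg.Agent.AutOrth.SemiSim (IsSemi conjE conjE_apply)
open Cfsg.Agent.H925 (qf nondeg_qf)
open Cfsg.Agent.H915.LD (Core FixQ)
open Cfsg.Agent.H879.Rx

theorem comm_of_fix {F V : Type} [Field F] [AddCommGroup V] [Module F V] {Q : QuadraticForm F V} (hQ : Nondeg Q)
    (h2 : (2 : F) ≠ 0) {z g : V ≃ₗ[F] V} (hz : z ∈ O Q) (hg : g ∈ O Q) (hzz : ∀ x, z (z x) = x)
    (h : ∀ x, z x = x ↔ z (g x) = g x) (x : V) : g (z x) = z (g x) := by
  have k1 : ∀ a b, z a = a → z b = -b → polar Q a b = 0 := fun a b ha hb => by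
    have h1 := polar_map hz a b
    rw [ha, hb, polar_neg_right] at h1
    exact (mul_eq_zero.1 (by linear_combination -h1 : 2 * polar Q a b = 0)).resolve_left h2
  have p1 : ∀ t, z (t + z t) = t + z t := fun t => by rw [map_add, hzz, add_comm]
  have p2 : ∀ t, z (t - z t) = -(t - z t) := fun t => by rw [map_sub, hzz, neg_sub]
  have k2 : ∀ y, (∀ a, z a = a → polar Q a y = 0) → z y = -y := fun y hy => by
    refine eq_neg_of_add_eq_zero_right (hQ _ fun t => ?_)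
    have h1 := k1 _ _ (p1 y) (p2 t)
    have h3 := hy _ (p1 t)
    have h4 := polar_map hz (t + z t) y
    rw [p1, h3] at h4
    have h5 : polar Q (y + z y) (t + z t) = 0 := by rw [polar_comm, polar_add_right, h3, h4, add_zero]
    rw [polar_sub_right] at h1
    rw [polar_add_right] at h5
    exact (mul_eq_zero.1 (by linear_combination h1 + h5 : 2 * polar Q (y + z y) t = 0)).resolve_left h2
  have h1 := (h _).1 (p1 x)
  have h3 := k2 (g (x - z x)) fun a ha => by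
    obtain ⟨a, rfl⟩ := g.surjective a
    rw [polar_map hg]
    exact k1 _ _ ((h a).2 ha) (p2 x)
  simp only [map_add, map_sub] at h1 h3
  refine smul_right_injective V h2 ?_
  simp only [two_smul]
  linear_combination (norm := module) -h1 - h3

theorem conj_soc {Γ : Type} [Group Γ] {Y R : Subgroup Γ} (h : AS Y R) {g : Γ} (h1 : ∀ y ∈ Y, g * y * g⁻¹ ∈ Y)
    (h2 : ∀ y ∈ Y, g⁻¹ * y * g⁻¹⁻¹ ∈ Y) : ∀ x ∈ R, g * x * g⁻¹ ∈ R := by
  refine h.le_of_conj (N := R.comap (MulAut.conj g).toMonoidHom) (fun x hx => ?_) (fun t ht x hx => ?_) fun h0 => ?_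
  · simpa [mul_assoc] using h2 _ (h.le hx)
  · have h3 := h.conj _ (h1 t (h.le ht)) _ hx
    change g * (t * x * t⁻¹) * g⁻¹ ∈ R
    simpa [mul_assoc] using h3
  · refine h.ne_bot (eq_bot_iff.2 fun x hx => ?_)
    have h3 : g⁻¹ * x * g ∈ R.comap (MulAut.conj g).toMonoidHom := by
      change g * (g⁻¹ * x * g) * g⁻¹ ∈ R
      simpa [mul_assoc] using hx
    rw [h0, mem_bot] at h3
    rw [mem_bot]
    calc x = g * (g⁻¹ * x * g) * g⁻¹ := by group
      _ = 1 := by rw [h3]; group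

variable {ι : Type} [Fintype ι] [DecidableEq ι] {K : Type} [Field K] [Fintype K] {Γ : Type} [Group Γ] [Finite Γ]
  {Q : (ι → K) → K} {X P : Subgroup (GL ι K)} {π : omegaGL Q →* Γ} {M S H T B : Subgroup Γ}

theorem relIndex_stab_le (D : Subgroup (GL ι K)) (E : Submodule K (ι → K)) :
    (subspaceStabilizer E).relIndex D ≤ Nat.card {W : Submodule K (ι → K) // finrank K W = finrank K E} := by
  have : Finite (Submodule K (ι → K)) := Finite.of_injective _ SetLike.coe_injective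
  let f : D → {W : Submodule K (ι → K) // finrank K W = finrank K E} := fun g =>
    ⟨E.map (glEquiv ι K g : (ι → K) →ₗ[K] (ι → K)), LinearEquiv.finrank_map_eq _ E⟩
  refine Nat.card_le_card_of_injective (fun x => f x.out) fun a b hab => ?_
  rw [← a.out_eq, ← b.out_eq]
  refine QuotientGroup.eq.2 (Ix.mem_stab_iff.2 fun w hw => ?_)
  have h1 : E.map (glEquiv ι K a.out : (ι → K) →ₗ[K] (ι → K)) = E.map (glEquiv ι K b.out : (ι → K) →ₗ[K] (ι → K)) :=
    congrArg Subtype.val hab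
  obtain ⟨u, hu, e⟩ : glEquiv ι K b.out w ∈ E.map (glEquiv ι K a.out : (ι → K) →ₗ[K] (ι → K)) := h1 ▸ ⟨w, hw, rfl⟩
  have h2 : ((a.out : GL ι K) : Matrix ι ι K) *ᵥ u = ((b.out : GL ι K) : Matrix ι ι K) *ᵥ w := e
  rw [coe_subtype, coe_mul, coe_inv, Units.val_mul, ← mulVec_mulVec, ← h2, mulVec_mulVec, Units.inv_mul, one_mulVec]
  exact hu

theorem as_B (fa : Fac M S H T B) {g : Γ} (hg : g ∈ B) : ∀ y ∈ B ⊓ S, g * y * g⁻¹ ∈ B ⊓ S := fun y hy =>
  ⟨B.mul_mem (B.mul_mem hg hy.1) (B.inv_mem hg), fa.asM.conj g (fa.bm.le hg) y hy.2⟩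

/-- **the count** -/
theorem count (hQ : IsNondegenerateQuadraticForm Q) (hn : 13 ≤ Fintype.card ι) (fa : Fac M S H T B) (c : Cov (omegaGL Q) π S)
    (hP : IsResidualCore (pre π B) P) {E : Submodule K (ι → K)}
    (hE : ∀ g : omegaGL Q, π g ∈ T → (g : GL ι K) ∈ subspaceStabilizer E → π g ∈ B) {a b : ℕ}
    (ha : ∀ k ≤ Fintype.card ι, Fintype.card ι * k ≤ a + (k - 1) * k)
    (hb : Nat.card (MulAut (H915.LD.Soc P)) ≤ Fintype.card K ^ b) :
    Fintype.card ι * (Fintype.card ι - 1) / 2 ≤ 3 + a + b := by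
  have hq : 2 ≤ Fintype.card K := Fintype.one_lt_card
  have h1 := H568.EP.ordOrth (Q := S) ⟨π.codRestrict S c.mem, fun s => by
    obtain ⟨g, hg⟩ := c.surj s.2
    exact ⟨g, Subtype.ext hg⟩, fun g => Subtype.ext_iff.trans (c.ker g)⟩ hn hQ
  have h2 : Nat.card ↥(B ⊓ S) ≤ Fintype.card K ^ b := by
    refine le_trans (Nat.card_le_card_of_injective _ (c.as hP).aut_injective) ?_
    rwa [← card_aut_congr (MonoidHom.ofInjective (c.emb_inj (hP.le.trans pre_le)))]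
  have h3 : B.relIndex S ≤ Fintype.card K ^ a := by
    have k1 : B.relIndex T = (B.comap π).relIndex (T.comap π) := by
      rw [relIndex_comap, map_comap_eq, c.range, inf_eq_right.2 fa.le]
    have k2 : (subspaceStabilizer E).relIndex (pre π T) = ((subspaceStabilizer E).subgroupOf _).relIndex (T.comap π) :=
      (relIndex_comap _ _ _).symm
    rw [← fa.relIndex_eq, k1]
    refine le_trans ?_ ((relIndex_stab_le (pre π T) E).trans (card_subspaces_le ?_))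
    · rw [k2, ← inf_relIndex_right ((subspaceStabilizer E).subgroupOf _)]
      exact relIndex_le_of_le_left (fun g hg => hE g hg.2 hg.1) index_ne_zero_of_finite
    · rw [Module.finrank_fintype_fun_eq_card]
      exact ha _ ((Submodule.finrank_le E).trans (Module.finrank_fintype_fun_eq_card K).le)
  have h4 : Nat.card S = B.relIndex S * Nat.card ↥(B ⊓ S) := by
    rw [← inf_relIndex_right, mul_comm, ← relIndex_bot_left, ← relIndex_bot_left,
      relIndex_mul_relIndex ⊥ _ _ bot_le inf_le_right]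
  refine (Nat.pow_le_pow_iff_right hq).1 (h1.trans ?_)
  rw [h4, pow_add, pow_add, mul_assoc]
  exact Nat.mul_le_mul (Nat.pow_le_pow_left hq 3) (Nat.mul_le_mul h3 h2)

/-- `M` acts on `S` by semisimilarities -/
theorem exists_sem (hQ : IsNondegenerateQuadraticForm Q) (hn : 9 ≤ Fintype.card ι) (c : Cov (omegaGL Q) π S) (hS : AS M S)
    {h : Γ} (hh : h ∈ M) : ∃ (T : (ι → K) ≃+ (ι → K)) (σ : K ≃+* K) (μ : K), IsSemi (qf hQ) T σ μ ∧
      ∀ g : omegaGL Q, ∃ g' : omegaGL Q, π g' = h * π g * h⁻¹ ∧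
        ∀ x, ((g' : GL ι K) : Matrix ι ι K) *ᵥ T x = T (((g : GL ι K) : Matrix ι ι K) *ᵥ x) := by
  let e : omegaGL Q ≃* E (qf hQ) :=
    ((glEquiv ι K).subgroupMap _).trans (MulEquiv.subgroupCongr (H925.map_omegaGL_eq hQ (by omega)))
  have he : ∀ (g : omegaGL Q) x, (e g : (ι → K) ≃ₗ[K] (ι → K)) x = ((g : GL ι K) : Matrix ι ι K) *ᵥ x := fun _ _ => rfl
  let π' : E (qf hQ) →* S := (π.codRestrict S c.mem).comp e.symm.toMonoidHom
  have hπ : ∀ g, (π' (e g) : Γ) = π g := fun g => congrArg π (e.symm_apply_apply g)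
  have h1 : Function.Surjective π' := fun s => by
    obtain ⟨g, hg⟩ := c.surj s.2
    exact ⟨e g, Subtype.ext ((hπ g).trans hg)⟩
  have h2 : π'.ker = center _ := by
    ext x
    obtain ⟨x, rfl⟩ := e.surjective x
    rw [MonoidHom.mem_ker, Subtype.ext_iff, hπ, mem_center_iff]
    refine ⟨fun k y => ?_, fun k => hS.cen _ (hS.le (c.mem x)) fun t ht => ?_⟩
    · obtain ⟨y, rfl⟩ := e.surjective y
      rw [← map_mul, ← map_mul]
      obtain ⟨a, ha⟩ := (mem_scalars_iff _).1 ((c.ker x).1 k)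
      refine congrArg e (Subtype.ext (Units.ext ?_))
      rw [coe_mul, coe_mul, Units.val_mul, Units.val_mul, ha, Matrix.mul_smul, Matrix.smul_mul, mul_one, one_mul]
    · obtain ⟨y, rfl⟩ := c.surj ht
      rw [← map_mul, ← map_mul, e.injective ((map_mul e y x).trans ((k _).trans (map_mul e x y).symm))]
  obtain ⟨T, σ, μ, hT, h3⟩ := ClassicalGeometry.OrthAut4.exists_semi (H925.good_qf hQ (by omega))
    (by rw [Module.finrank_fintype_fun_eq_card]; omega)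
    (by rw [Module.finrank_fintype_fun_eq_card]; omega) h1 h2 (hS.aut ⟨h, hh⟩)
  refine ⟨T, σ, μ, hT, fun g => ?_⟩
  obtain ⟨g', hg'⟩ := e.surjective (conjE hT (e g))
  refine ⟨g', ?_, fun x => ?_⟩
  · rw [← hπ, hg', ← h3, hS.aut_apply, hπ]
    rfl
  · rw [← he, ← he, hg', conjE_apply]

theorem stab_of_red (hQ : IsNondegenerateQuadraticForm Q) (hn : Fintype.card ι = 16) (fa : Fac M S H T B)
    (c : Cov (omegaGL Q) π S) {v : ι → K} (hv : Q v ≠ 0)
    (hH : pre π H = omegaGL Q ⊓ subspaceStabilizer (Submodule.span K {v})) {U : Submodule K (ι → K)} (h8 : finrank K U = 8)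
    (hU : subspaceStabilizer (Submodule.span K {v}) ⊓ pre π B ≤ subspaceStabilizer U) (hvU : v ∉ U)
    (hUv : ∀ u ∈ U, polar Q u v = 0) {r : ℕ} (hr : r.Prime) (h3 : orderOf (Fintype.card K : ZMod r) = 3)
    (hrA : r ∣ Nat.card ↥(subspaceStabilizer (Submodule.span K {v}) ⊓ pre π B)) :
    ∃ E : Submodule K (ι → K), ∀ g : omegaGL Q, π g ∈ T → (g : GL ι K) ∈ subspaceStabilizer E → π g ∈ B := by
  have hd : finrank K (ι → K) = 16 := by rw [Module.finrank_fintype_fun_eq_card, hn]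
  have hX : ∀ g : omegaGL Q, π g ∈ H ↔ (g : GL ι K) ∈ subspaceStabilizer (Submodule.span K {v}) := fun g =>
    ⟨fun h => (hH ▸ mem_pre.2 ⟨g.2, h⟩ : (g : GL ι K) ∈ omegaGL Q ⊓ _).2,
      fun h => (mem_pre.1 (hH.symm ▸ (⟨g.2, h⟩ : (g : GL ι K) ∈ omegaGL Q ⊓ _))).2⟩
  have : Fact r.Prime := ⟨hr⟩
  obtain ⟨g₀, hg₀⟩ := exists_prime_orderOf_dvd_card' r hrA
  obtain ⟨E, h1, ⟨s, hs, hsv, hsn⟩, ⟨w, hw, hwE⟩, h2⟩ := exists_can (nondeg_qf hQ) hd (v := v) hv
    (A := {a | ∃ g : omegaGL Q, π g ∈ H ⊓ B ∧ glEquiv ι K g = a}) (U := U) (by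
      rintro _ ⟨g, hg, rfl⟩
      exact ⟨H925.mem_iso_iff.1 (H925.omegaGL_le_iso Q g.2), Ix.mem_stab_point.1 ((hX g).1 hg.1)⟩) h8 (by
      rintro _ ⟨g, hg, rfl⟩
      exact Ix.mem_stab_iff.1 (hU ⟨(hX g).1 hg.1, mem_pre.2 ⟨g.2, hg.2⟩⟩)) hvU
    (fun u hu => (polar_comm _ _ _).trans (hUv u hu)) hr h3 (g := glEquiv ι K g₀)
    ⟨⟨g₀, pre_le g₀.2.2⟩, ⟨(hX _).2 g₀.2.1, (mem_pre.1 g₀.2.2).2⟩, rfl⟩
    (by rw [← map_pow, ← coe_pow, ← hg₀, pow_orderOf_eq_one, coe_one, map_one])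
    (fun h => hr.one_lt.ne' (by rw [← hg₀, orderOf_eq_one_iff]; exact Subtype.ext ((map_eq_one_iff _ (glEquiv ι K).injective).1 h)))
  have h1' : ∀ g : omegaGL Q, π g ∈ H ⊓ B → (g : GL ι K) ∈ subspaceStabilizer E := fun g hg =>
    Ix.mem_stab_iff.2 (h1 _ ⟨g, hg, rfl⟩)
  have hm : ∀ g : omegaGL Q, π g ∈ ((subspaceStabilizer E).subgroupOf _).map π ↔ (g : GL ι K) ∈ subspaceStabilizer E :=
    fun g => ⟨fun ⟨x, hx, e⟩ => by
      have k := (subspaceStabilizer E).mul_mem hx (scalars_le_stab E ((c.ker (x⁻¹ * g)).1 (by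
        rw [map_mul, map_inv, e, inv_mul_cancel])))
      rwa [coe_mul, coe_inv, coe_subtype, mul_inv_cancel_left] at k, fun h => ⟨g, h, rfl⟩⟩
  refine ⟨E, fun g k1 k2 => ?_⟩
  rcases fa.prim (Y := T ⊓ ((subspaceStabilizer E).subgroupOf _).map π) (fun t ht => by
    obtain ⟨x, rfl⟩ := c.surj (fa.le ht.1)
    exact ⟨ht.1, (hm x).2 (h1' x ⟨fa.asH.le ht.1, ht.2⟩)⟩) inf_le_left (fun h hh x hx => by
    obtain ⟨L, σ, μ, hL, k⟩ := exists_sem hQ (by omega) c fa.asM (fa.hm.le hh.1)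
    have k3 := h2 L σ μ hL (cm_pp (nondeg_qf hQ) (by omega) hv hL fun a ha hav y hy => by
      obtain ⟨a', ha', e⟩ := H925.exists_omegaGL hQ (by omega) ha
      obtain ⟨b, hb, e'⟩ := k ⟨a', ha'⟩
      have k4 : π b ∈ H := hb ▸ H.mul_mem (H.mul_mem hh.1 ((hX ⟨a', ha'⟩).2
        (Ix.mem_stab_point.2 ⟨1, by rw [one_smul]; exact (e v).trans hav⟩))) (H.inv_mem hh.1)
      rw [← e, ← e']
      exact Ix.mem_stab_iff.1 ((Ix.stab_pole hQ (W := H955.perp (qf hQ) (Submodule.span K {v})) (fun _ => mem_pp)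
        (H925.omegaGL_le_iso Q b.2)).2 ((hX b).1 k4)) _ (mem_pp.2 hy) v (Submodule.mem_span_singleton_self v)) (by
      rintro _ ⟨a, ha, rfl⟩
      obtain ⟨b, hb, e⟩ := k a
      exact ⟨_, ⟨b, hb ▸ Subgroup.mul_mem _ (Subgroup.mul_mem _ hh ha) (Subgroup.inv_mem _ hh), rfl⟩, e⟩)
    obtain ⟨y, rfl⟩ := c.surj (fa.le hx.1)
    obtain ⟨y', hy, e⟩ := k y
    refine ⟨fa.asH.conj h hh.1 _ hx.1, hy ▸ (hm y').2 (Ix.mem_stab_iff.2 fun u hu => ?_)⟩
    obtain ⟨u, rfl⟩ := L.surjective u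
    rw [e, ← mem_cm hL, k3]
    exact Ix.mem_stab_iff.1 ((hm y).1 hx.2) u (k3 ▸ (mem_cm hL).2 hu)) with k | k
  · exact (k ▸ (⟨k1, (hm g).2 k2⟩ : π g ∈ T ⊓ ((subspaceStabilizer E).subgroupOf _).map π) : π g ∈ T ⊓ B).2
  · refine (hwE (irr_pt (nondeg_qf hQ) (by omega) hv (fun a ha hav y hy => ?_) hs hsv hsn hw)).elim
    obtain ⟨a', ha', e⟩ := H925.exists_omegaGL hQ (by omega) ha
    have k4 : π ⟨a', ha'⟩ ∈ H := (hX _).2 (Ix.mem_stab_point.2 ⟨1, by rw [one_smul]; exact (e v).trans hav⟩)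
    obtain ⟨t, ht, b, hb, e'⟩ := fa.fac _ (c.mem ⟨a', ha'⟩)
    obtain ⟨t, rfl⟩ := c.surj (fa.le ht)
    have k5 : π (t⁻¹ * ⟨a', ha'⟩) = b := by rw [map_mul, map_inv, e', inv_mul_cancel_left]
    have k6 := (subspaceStabilizer E).mul_mem ((hm t).1 (inf_eq_left.1 k ht)) (h1' (t⁻¹ * ⟨a', ha'⟩)
      ⟨by rw [map_mul, map_inv]; exact H.mul_mem (H.inv_mem (fa.asH.le ht)) k4, k5 ▸ hb⟩)
    rw [coe_mul, coe_inv, mul_inv_cancel_left] at k6
    exact e y ▸ Ix.mem_stab_iff.1 k6 y hy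

theorem stab_of_inv {n : ℕ} {Q : (Fin n → K) → K} {X P : Subgroup (GL (Fin n) K)} {π : omegaGL Q →* Γ}
    (hQ : IsNondegenerateQuadraticForm Q) (h2 : (2 : K) ≠ 0) (fa : Fac M S H T B) (c : Cov (omegaGL Q) π S)
    (hH : pre π H = omegaGL Q ⊓ X) (hP : IsResidualCore (pre π B) P) (h : Inv X P) :
    ∃ E : Submodule K (Fin n → K), ∀ g : omegaGL Q, π g ∈ T → (g : GL (Fin n) K) ∈ subspaceStabilizer E → π g ∈ B := by
  obtain ⟨z, hzX, hzz, hz, -, hφ⟩ := h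
  have hG := hP.le.trans pre_le
  have k1 : ∀ g ∈ H ⊓ B, g ∈ centralizer {π ⟨z, hG z.2⟩} := fun g hg => by
    obtain ⟨φ, h1⟩ := exists_aut (c.emb_inj hG) (mem_norm_of_conj (L := B)
      (fun g hg => conj_soc (c.as hP) (as_B fa hg) (as_B fa (B.inv_mem hg))) hg.2)
    have h3 := h1 (QuotientGroup.mk z)
    rw [hφ φ (c.img_eq hG hH ▸ comap_map_aut h1 hg.1), c.emb_mk] at h3
    rw [mem_centralizer_singleton_iff]
    exact mul_inv_eq_iff_eq_mul.1 h3.symm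
  refine ⟨LinearMap.eqLocus (glEquiv (Fin n) K z : (Fin n → K) →ₗ[K] (Fin n → K)) LinearMap.id, fun g h1 h3 => ?_⟩
  rcases fa.prim (Y := T ⊓ centralizer {π ⟨z, hG z.2⟩}) (fun t ht => ⟨ht.1, k1 t ⟨fa.asH.le ht.1, ht.2⟩⟩) inf_le_left
    (fun h hh x hx => ⟨fa.asH.conj h hh.1 x hx.1,
      Subgroup.mul_mem _ (Subgroup.mul_mem _ (k1 h hh) hx.2) (Subgroup.inv_mem _ (k1 h hh))⟩) with k | k
  · refine (k ▸ (⟨h1, mem_centralizer_singleton_iff.2 ?_⟩ : π g ∈ T ⊓ centralizer {π ⟨z, hG z.2⟩}) : π g ∈ T ⊓ B).2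
    rw [← map_mul, ← map_mul]
    refine congrArg π (Subtype.ext ((glEquiv _ K).injective (LinearEquiv.ext fun x => ?_)))
    rw [coe_mul, coe_mul, map_mul, map_mul]
    refine comm_of_fix (nondeg_qf hQ) h2 (z := glEquiv _ K z) (g := glEquiv _ K g) (H925.mem_iso_iff.1 (H925.omegaGL_le_iso Q (hG z.2)))
      (H925.mem_iso_iff.1 (H925.omegaGL_le_iso Q g.2)) (fun y => ?_) h3 x
    rw [← LinearEquiv.mul_apply, ← map_mul, ← coe_mul, hzz, coe_one, map_one, LinearEquiv.coe_one, id]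
  · refine (hz ((c.ker ⟨z, hG z.2⟩).1 (fa.asH.cen _ (mem_pre.1 (hH.symm ▸ (⟨hG z.2, hzX⟩ :
      (z : GL (Fin n) K) ∈ omegaGL Q ⊓ X))).2 fun t ht => ?_))).elim
    exact (mem_centralizer_singleton_iff.1 (inf_eq_left.1 k ht)).symm

section inv

variable {q m : ℕ} {f : (ι → K) → (ι → K) → K} {Sg : (ι → K) → Prop} {G : Subgroup (GL ι K)}

theorem Sph.inv_o (s : Sph q m .o f Sg G X) : ∃ Q : (ι → K) → K, IsNondegenerateQuadraticForm Q ∧ G = omegaGL Q ∧
    Fintype.card K = q ∧ Odd q ∧ Fintype.card ι = 2 * m + 1 := by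
  cases s with
  | o Q hQ hK hq hd => exact ⟨Q, hQ, rfl, hK, hq, hd⟩

theorem Sph.inv_p1 (s : Sph q m .p1 f Sg G X) : ∃ (Q : (ι → K) → K) (v : ι → K), IsNondegenerateQuadraticForm Q ∧
    G = omegaGL Q ∧ f = polar Q ∧ Fintype.card K = q ∧ Fintype.card ι = 2 * m ∧ Q v ≠ 0 ∧
    X = subspaceStabilizer (Submodule.span K {v}) := by
  cases s with
  | p1 Q hQ hp hK hd v hv => exact ⟨Q, v, hQ, rfl, rfl, hK, hd, hv, rfl⟩

end inv

theorem cs2_of (hH : BoxHy) (hD : BoxD) (hX : BoxX) (hBo : BoxBo) (hBe : BoxBe) (hC : BoxC) (hF : BoxF) : CS2 := by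
  intro ι _ _ K _ _ Γ _ _ M S H T B k q m f Sg G X P π fa s c hn hB hP hq
  let e := Fintype.equivFin ι
  have hn' : 13 ≤ Fintype.card (Fin (Fintype.card ι)) := by rwa [Fintype.card_fin]
  have s' := s.re e
  have c' := c.re e
  have hB' : pre (πx e π) H = rx e G ⊓ rx e X := by rw [pre_re, hB, rx_inf]
  have hP' : IsResidualCore (pre (πx e π) B) (rx e P) := pre_re e π B ▸ res_re e hP
  have hq' : k = .s → ¬ FixQ (rx e P) := fun h => nq_re e (hq h)
  suffices h : RowCo k q m (H915.LD.Soc (rx e P)) from h.congr (socEqv e P)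
  generalize πx e π = π' at c' hB' hP'
  generalize rx e P = P' at hP' hq' ⊢
  generalize rx e X = X' at s' hB'
  generalize rx e G = G' at *
  generalize (fun x y : Fin (Fintype.card ι) → K => f (x ∘ e) (y ∘ e)) = f' at s'
  have cs : Cs k G' X' (pre π' B) P' := ⟨hn', hP', pre_le, c'.prop fa.nB, fun g hg => by
    obtain ⟨y, hy, x, hx, e⟩ := c'.fac (Z := T) (Z' := B) (fun s hs => by
      obtain ⟨t, ht, b, hb, e⟩ := fa.fac s hs
      exact ⟨t, ⟨ht, fa.le ht⟩, b, hb, e⟩) g⁻¹ (G'.inv_mem hg)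
    exact ⟨x⁻¹, Subgroup.inv_mem _ hx, y⁻¹, X'.inv_mem (hB' ▸ pre_mono fa.asH.le hy : y ∈ G' ⊓ X').2, by
      rw [← _root_.mul_inv_rev, ← e, inv_inv]⟩, hq'⟩
  have hy := hH _ K k q m _ _ _ _ _ _ s' cs
  have red : RowBo k q m (H915.LD.Soc P') ∨ RowBe k q m (H915.LD.Soc P') → Red f' X' (pre π' B) P' → False := fun h hR => by
    obtain ⟨rfl, rfl, h1, h2⟩ := row16 h
    obtain ⟨Q, v, hQ, rfl, rfl, rfl, hd, hv, rfl⟩ := s'.inv_p1
    obtain ⟨U, h8, hU, hvU, hUv⟩ := hR.1 v (by rintro rfl; exact hv (map_zero (qf hQ))) rfl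
    obtain ⟨r, hr, hr2, h3⟩ := exists_prime3 (Fintype.one_lt_card (α := K))
    have h4 : ∀ j, r ∣ Fintype.card K ^ j - 1 ↔ 3 ∣ j := fun j => by
      rw [← h3, orderOf_dvd_iff_pow_eq_one, ← ZMod.natCast_eq_zero_iff,
        Nat.cast_sub (Nat.one_le_pow _ _ Fintype.card_pos), sub_eq_zero, Nat.cast_pow, Nat.cast_one]
    have h5 : ¬ r ∣ Fintype.card K := fun h => by
      have : Fact r.Prime := ⟨hr⟩
      rw [(ZMod.natCast_eq_zero_iff _ _).2 h, orderOf_zero] at h3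
      omega
    have h6 : r ∣ Nat.card ↥(pre π' B) :=
      ((h2 r hr hr2 ((h4 3).2 dvd_rfl)).trans (card_quotient_dvd_card _)).trans (card_dvd_of_le hP'.le)
    rw [← relIndex_bot_left, ← relIndex_mul_relIndex ⊥ (subspaceStabilizer (Submodule.span K {v}) ⊓ pre π' B) _ bot_le
      inf_le_right, relIndex_bot_left, inf_relIndex_right, hr.dvd_mul] at h6
    obtain ⟨E, hE⟩ := stab_of_red hQ hd fa c' hv hB' h8 hU hvU hUv hr h3 (h6.resolve_right fun h => by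
      rcases hr.dvd_mul.1 (hy.idx ▸ h.mul_right _ : r ∣ Kind.p1.num (Fintype.card K) 8) with h | h
      · exact h5 (hr.dvd_of_dvd_pow h)
      · exact absurd ((h4 8).1 h) (by norm_num))
    have h7 := count hQ hn' fa c' hP' hE (a := 72) (by rw [hd]; decide) h1
    rw [hd] at h7
    omega
  rcases rows_fin hD hX hy with h | h | h | h | h
  · exact (red (Or.inl h) (hBo _ K k q m _ _ _ _ _ _ hy h)).elim
  · exact (red (Or.inr h) (hBe _ K k q m _ _ _ _ _ _ hy h)).elim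
  · have h1 := hC _ K k q m _ _ _ _ _ _ hy h
    have h2 := h.aut
    obtain ⟨rfl, rfl, -⟩ := h
    obtain ⟨Q, hQ, rfl, rfl, ho, hd⟩ := s'.inv_o
    obtain ⟨E, hE⟩ := stab_of_inv hQ (Ix.two_ne_zero_of_odd ho) fa c' hB' hP' h1
    have h7 := count hQ hn' fa c' hP' hE (a := 49) (by rw [hd]; decide) h2
    rw [hd] at h7
    omega
  · have h1 := hF _ K k q m _ _ _ _ _ _ hy h
    have h2 := h.aut
    obtain ⟨rfl, rfl, -⟩ := h
    obtain ⟨Q, hQ, rfl, rfl, ho, hd⟩ := s'.inv_o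
    obtain ⟨E, hE⟩ := stab_of_inv hQ (Ix.two_ne_zero_of_odd ho) fa c' hB' hP' h1
    have h7 := count hQ hn' fa c' hP' hE (a := 169) (by rw [hd]; decide) h2
    rw [hd] at h7
    omega
  · exact h

end Cfsg.Agent.SM.CS
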